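import Cfsg.Agent.Lib.Fusion.SubCent.Odd.Lifts

/-!
The subgroup `J C_T(J)`, descent of fixed points, and invariance.
-/

set_option autoImplicit false
set_option linter.unusedSectionVars false
set_option linter.style.haveILetI false

namespace Cfsg.FusionSystem.SubCent.Odd

universe u

variable {Ω : Type u} [Group Ω] {S T : Subgroup Ω} {F : FusionSystem S} {E : FusionSystem T}
  {P Q R J J' V V' Y : Subgroup Ω} {f g : Ω → Ω} {p : ℕ} {y : Ω}

/-- `J C_T(J)`. -/
abbrev jcent (T J : Subgroup Ω) : Subgroup Ω := J ⊔ centralizerIn T J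

/-- All lifts of order prime to `p` fix `y`. -/
def FixAll (E : FusionSystem T) (F : FusionSystem S) (p : ℕ) (P : Subgroup Ω) (y : Ω) : Prop :=
  ∀ f, PLift E F p P f → f y = y

/-- The normal closure of `Aut_T(P)`. -/
def oSub (E : FusionSystem T) (P : Subgroup Ω) : Subgroup (E.autGroup P) :=
  Subgroup.normalClosure
    (((autInducedBy T P).subgroupOf (E.autGroup P) : Subgroup (E.autGroup P)) : Set (E.autGroup P))

/-- The restriction to `P` lies in the normal closure of `Aut_T(P)`. -/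
def InO (E : FusionSystem T) (P : Subgroup Ω) (f : Ω → Ω) : Prop :=
  ∀ α : E.autGroup P, (∀ x : P, ((((α : MulAut P) x) : P) : Ω) = f x) → α ∈ oSub E P

/-- An isomorphism carrying `J` to `J'` carries `J C_T(J)` into `J' C_T(J')`. -/
theorem jcent_maps (hT : F.StronglyClosed T) (h : F.IsIso V V' f) (hJ : jcent T J ≤ V)
    (hm : ∀ y, y ∈ J' ↔ ∃ x ∈ J, f x = y) : ∀ x ∈ jcent T J, f x ∈ jcent T J' := by
  intro x hx
  rw [jcent, Subgroup.sup_eq_closure] at hx
  have hle : Subgroup.closure ((J : Set Ω) ∪ (centralizerIn T J : Set Ω)) ≤ V := by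
    rw [← Subgroup.sup_eq_closure]; exact hJ
  induction hx using Subgroup.closure_induction with
  | mem x hx =>
    rcases hx with hx | hx
    · exact Subgroup.mem_sup_left ((hm _).mpr ⟨x, hx, rfl⟩)
    · have hxV : x ∈ V := hle (Subgroup.subset_closure (Or.inr hx))
      exact Subgroup.mem_sup_right ⟨hT.iso_mem h hxV hx.1,
        h.mem_centralizer (le_sup_left.trans hJ) hm hxV hx.2⟩
  | one => rw [h.apply_one]; exact Subgroup.one_mem _
  | mul a b ha hb iha ihb => rw [h.apply_mul (hle ha) (hle hb)]; exact Subgroup.mul_mem _ iha ihb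
  | inv a ha iha => rw [h.apply_inv (hle ha)]; exact Subgroup.inv_mem _ iha

theorem jcent_le (hJ : J ≤ T) : jcent T J ≤ T := sup_le hJ centralizerIn_le

theorem centralizerIn_jcent_le : centralizerIn T (jcent T J) ≤ jcent T J :=
  fun _ hx => Subgroup.mem_sup_right ⟨hx.1, Subgroup.centralizer_le (le_sup_left : J ≤ jcent T J) hx.2⟩

variable [Finite S]

/-- Elements of `S` normalizing `J` normalize `J C_T(J)`. -/
theorem normalizerIn_le_jcent (hT : F.StronglyClosed T) (hJ : J ≤ T) :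
    normalizerIn S J ≤ normalizerIn S (jcent T J) := by
  intro s hs
  refine ⟨hs.1, ?_⟩
  have hfull : F.IsIso S S (fun x => s * x * s⁻¹) :=
    isIso_conj_normalizer le_rfl hs.1 (Subgroup.le_normalizer hs.1)
  haveI := finite_of_le ((jcent_le hJ).trans hT.1)
  refine Subgroup.mem_normalizer_fintype fun x hx => ?_
  refine jcent_maps hT hfull ((jcent_le hJ).trans hT.1) (image_self hfull (hJ.trans hT.1)
    fun z hz => (Subgroup.mem_normalizer_iff.mp hs.2 z).mp hz) x hx

variable [Fact p.Prime]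

/-- `J C_T(J)` is fully normalized when `J = J(J C_T(J))` is. -/
theorem isFullyNormalized_jcent (hT : F.StronglyClosed T) (hJn : F.IsFullyNormalized J) (hJT : J ≤ T)
    (hY : thompson (jcent T J) = J) : F.IsFullyNormalized (jcent T J) := by
  refine ⟨(jcent_le hJT).trans hT.1, fun Q hQ => ?_⟩
  obtain ⟨φ, hφ, hr⟩ := hQ
  have hi : F.IsIso (jcent T J) Q (funOf φ) := hr ▸ isIso_funOf hφ
  have hJQ : F.IsIso J (thompson Q) (funOf φ) := by
    have := hi.restrict' thompson_le (thompson_image hi)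
    rwa [hY] at this
  have hQS : Q ≤ S := hi.le_right
  have h1 : normalizerIn S Q ≤ normalizerIn S (thompson Q) := fun s hs => by
    haveI := finite_of_le (thompson_le.trans hQS)
    refine ⟨hs.1, Subgroup.mem_normalizer_fintype fun x hx => ?_⟩
    exact thompson_maps (isIso_conj_normalizer (E := F) hQS hs.1 hs.2) x hx
  haveI := finite_of_le (normalizerIn_le : normalizerIn S (thompson Q) ≤ S)
  haveI := finite_of_le (normalizerIn_le : normalizerIn S (jcent T J) ≤ S)
  exact (Subgroup.card_le_of_le h1).trans ((hJn.2 _ hJQ.isConj).trans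
    (Subgroup.card_le_of_le (normalizerIn_le_jcent hT hJT)))

/-- A fully centralized subgroup containing its centralizer is centric. -/
theorem isCentric_of_centralizer_le [Finite T] {E : FusionSystem T} (hP : E.IsFullyCentralized P)
    (h : centralizerIn T P ≤ P) : E.IsCentric P := by
  refine ⟨hP.1, fun Q hQ => ?_⟩
  obtain ⟨φ, hφ, hr⟩ := id hQ
  have hi : E.IsIso P Q (funOf φ) := hr ▸ isIso_funOf hφ
  obtain ⟨C', hC', hC'Q, hC'm⟩ := hi.restrict h
  have hle : C' ≤ centralizerIn T Q := fun y hy => by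
    obtain ⟨c, hc, rfl⟩ := (hC'm y).mp hy
    exact ⟨hi.le_right (hi.mem (h hc)), hi.mem_centralizer le_rfl
      (fun _ => ⟨hi.surj, fun ⟨x, hx, he⟩ => he ▸ hi.mem hx⟩) (h hc) hc.2⟩
  haveI := finite_centralizerIn (S := T) (P := Q)
  exact (Subgroup.eq_of_le_of_card_ge hle (hC'.card_eq ▸ hP.2 Q hQ)).ge.trans hC'Q

/-- `J C_T(J)` is fully normalized and centric. -/
theorem jcent_props (hS : IsPGroup p S) (hE : E.IsNormalIn F p) (hJn : F.IsFullyNormalized J)
    (hJT : J ≤ T) (hY : thompson (jcent T J) = J) :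
    F.IsFullyNormalized (jcent T J) ∧ E.IsCentric (jcent T J) := by
  obtain ⟨hEs, hF, hEi⟩ := id hE.1
  have hT := hEi.2.1
  haveI := finite_of_le hT.1
  have h1 := isFullyNormalized_jcent hT hJn hJT hY
  refine ⟨h1, isCentric_of_centralizer_le ?_ centralizerIn_jcent_le⟩
  exact hEs.isFullyCentralized_of_isFullyNormalized (hS.to_le hT.1)
    (h1.of_invariant hEi hS hF (jcent_le hJT))

set_option maxHeartbeats 400000 in
/-- Descent from `Y ≤ P` to `P`. -/
theorem descend (hS : IsPGroup p S) (hE : E.IsNormalIn F p) (hPT : P ≤ T) (hYP : Y ≤ P)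
    (hYn : F.IsFullyNormalized Y) (hYc : E.IsCentric Y) (hzen : zen P ≤ Y)
    (hpres : ∀ α ∈ E.autGroup P, ∀ r : P, (r : Ω) ∈ Y → ((α r : P) : Ω) ∈ Y)
    (hy : y ∈ centralizerIn S T) (hfix : FixAll E F p Y y) (hf : PLift E F p P f) (hO : InO E P f) :
    f y = y := by
  obtain ⟨hEs, hF, hEi⟩ := id hE.1
  have hT := hEi.2.1
  have hYT := hYP.trans hPT
  have hfc := hF.isFullyCentralized_of_isFullyNormalized hS hYn
  haveI := finite_of_le hT.1
  haveI := finite_autGroup (F := E) hPT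
  haveI := finite_autGroup (F := E) hYT
  -- the restriction
  have hres : ∀ α : E.autGroup P, ∃ β : E.autGroup Y, ∀ x : Y,
      ((((β : MulAut Y) x) : Y) : Ω) = ((((α : MulAut P) ⟨x, hYP x.2⟩) : P) : Ω) := by
    intro α
    obtain ⟨a, ha, hae⟩ := isIso_of_aut hPT α.2
    obtain ⟨β, hβ, hβe⟩ := (isIso_self ha hYP (fun x hx => by
      rw [← hae ⟨x, hYP hx⟩]; exact hpres _ α.2 ⟨x, hYP hx⟩ hx)).toAut
    exact ⟨⟨β, hβ⟩, fun x => by rw [hβe, hae]⟩
  choose res hres using hres
  let ρ : E.autGroup P →* E.autGroup Y := MonoidHom.mk' res fun a b => by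
    refine Subtype.ext (MulEquiv.ext fun x => Subtype.ext ?_)
    rw [Subgroup.coe_mul, MulAut.mul_apply, hres, hres, Subgroup.coe_mul, MulAut.mul_apply]
    exact congrArg (fun z : P => (((a : MulAut P) z : P) : Ω)) (Subtype.ext (hres b x).symm)
  let L : Subgroup (E.autGroup Y) := (liftable F Y hfc.1).subgroupOf (E.autGroup Y)
  haveI hLn : L.Normal := ⟨fun a ha b => by
    have := liftable_conj hS hF hfc (α := (a : MulAut Y)) (β := (b : MulAut Y)) ha
      (hEi.1.isIso_autGroup hYT b.2)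
    simpa [L, Subgroup.mem_subgroupOf] using this⟩
  have hLρ : oSub E P ≤ L.comap ρ := by
    refine Subgroup.normalClosure_le_normal fun a ha => ?_
    obtain ⟨t, ht, htn, hte⟩ := mem_autInducedBy_iff.mp (Subgroup.mem_subgroupOf.mp ha)
    refine Subgroup.mem_subgroupOf.mpr
      (autInducedBy_le_liftable hT hYT hYc.centralizerIn_le_self (mem_autInducedBy_iff.mpr ?_))
    haveI := finite_of_le hYT
    refine ⟨t, ht, Subgroup.mem_normalizer_fintype fun z hz => ?_, fun x => (hres a x).trans (hte _)⟩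
    show t * z * t⁻¹ ∈ Y
    rw [← hte ⟨z, hYP hz⟩]
    exact hpres _ a.2 ⟨z, hYP hz⟩ hz
  obtain ⟨α, hα, hαe⟩ := hf.iso.toAut
  obtain ⟨f₁, hf₁, hf₁e⟩ : (ρ ⟨α, hα⟩ : MulAut Y) ∈ liftable F Y hfc.1 := hLρ (hO ⟨α, hα⟩ hαe)
  have hf₁f : ∀ x ∈ Y, f₁ x = f x := fun x hx => by
    rw [← hf₁e ⟨x, hx⟩]
    exact (hres ⟨α, hα⟩ ⟨x, hx⟩).trans (hαe _)
  have hfY : ∀ x ∈ Y, f x ∈ Y := fun x hx => hf₁f x hx ▸ hf₁.pres x hx
  obtain ⟨m, hm, hper⟩ := hf.per
  have hiter : ∀ k : ℕ, ∀ x ∈ Y, f₁^[k] x = f^[k] x ∧ f^[k] x ∈ Y := by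
    intro k
    induction k with
    | zero => exact fun x hx => ⟨rfl, hx⟩
    | succ k ih =>
      intro x hx
      obtain ⟨h1, h2⟩ := ih x hx
      rw [Function.iterate_succ_apply', Function.iterate_succ_apply', h1, hf₁f _ h2]
      exact ⟨rfl, hfY _ h2⟩
  obtain ⟨f₀, hf₀, hf₀e, m', hm', hper'⟩ := hf₁.exists_pprime hm fun x hx => by
    rw [(hiter m x hx).1]; exact hper x (Subgroup.mem_sup_left (hYP hx))
  have hff : ∀ x ∈ Y, f₀ x = f x := fun x hx => (hf₀e x hx).trans (hf₁f x hx)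
  have hfE : E.IsIso Y Y f₀ := (isIso_self hf.iso hYP hfY).congr hff
  have hfy₀ : f₀ y = y := hfix f₀ ⟨hf₀, hfE, m', hm', hper'⟩
  -- comparison
  have hyP : y ∈ centralizerIn S P := ⟨hy.1, Subgroup.centralizer_le hPT hy.2⟩
  have hyY : y ∈ centralizerIn S Y := ⟨hy.1, Subgroup.centralizer_le hYT hy.2⟩
  have hyW : y ∈ P ⊔ centralizerIn S P := Subgroup.mem_sup_right hyP
  obtain ⟨d, hde⟩ : ∃ d, d = y⁻¹ * f y := ⟨_, rfl⟩
  obtain ⟨hd1, hd2⟩ := hf.lift.triv' hyP
  rw [← hde] at hd1 hd2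
  have hdY : d ∈ Y := hzen ⟨hd1, hd2.2⟩
  have hfy : f y = y * d := by rw [hde, mul_inv_cancel_left]
  have hfyY : f y ∈ centralizerIn S Y := by
    rw [hfy]
    exact (centralizerIn S Y).mul_mem hyY ⟨hd2.1, Subgroup.centralizer_le hYP hd2.2⟩
  obtain ⟨f₀', hf₀', hl, hr⟩ := hf₀.exists_symm
  have hh : F.IsIso (Y ⊔ Subgroup.zpowers y) (Y ⊔ Subgroup.zpowers (f y)) f :=
    sup_image hf.lift.iso (hYP.trans le_sup_left) (Subgroup.zpowers_le.mpr hyW)
      (image_self hf.lift.iso (hYP.trans le_sup_left) hfY) (image_zpowers hf.lift.iso hyW)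
  have hQle : Y ⊔ Subgroup.zpowers (f y) ≤ Y ⊔ centralizerIn S Y :=
    sup_le_sup_left (Subgroup.zpowers_le.mpr hfyY) Y
  obtain ⟨Q, hQ, -, -⟩ := hf₀'.iso.restrict hQle
  have key := fixed_transport hS hF hfc hf₀ hm' hper' (hh.comp hQ) le_sup_left
    (fun z hz => by
      show f₀' (f z) = z
      rw [← hff z hz]
      exact hl z (Subgroup.mem_sup_left hz))
    (Subgroup.mem_sup_right (Subgroup.mem_zpowers y)) hyY hfy₀
  have hfyW : f y ∈ Y ⊔ centralizerIn S Y := Subgroup.mem_sup_right hfyY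
  rw [hr _ hfyW] at key
  have key2 : f₀ (f y) = f y := by
    conv_lhs => rw [key]
    exact hr _ hfyW
  have hfd : f d = d := by
    rw [hfy, hf₀.iso.apply_mul (Subgroup.mem_sup_right hyY) (Subgroup.mem_sup_left hdY), hfy₀,
      hff d hdY] at key2
    exact mul_left_cancel key2
  have hdW : d ∈ P ⊔ centralizerIn S P := Subgroup.mem_sup_left hd1
  have hit : ∀ k : ℕ, f^[k] y = y * d ^ k := by
    intro k
    induction k with
    | zero => simp
    | succ k ih =>
      have hdk : f (d ^ k) = d ^ k := by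
        clear ih
        induction k with
        | zero => simp [hf.lift.iso.apply_one]
        | succ k ih => rw [pow_succ, hf.lift.iso.apply_mul (Subgroup.pow_mem _ hdW k) hdW, ih, hfd]
      rw [Function.iterate_succ_apply', ih, hf.lift.iso.apply_mul hyW (Subgroup.pow_mem _ hdW k), hdk,
        hfy, pow_succ', ← mul_assoc]
  have h8 : d ^ m = 1 := by
    have := hit m
    rwa [hper y hyW, left_eq_mul] at this
  obtain ⟨i, hi⟩ := hS.to_le (hPT.trans hT.1) ⟨d, hd1⟩
  rw [hfy, eq_one_of_coprime_pow h8 (congrArg Subtype.val hi)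
    (Nat.Coprime.pow_right i ((Nat.Prime.coprime_iff_not_dvd Fact.out).mpr hm).symm), mul_one]

/-- Invariance under automorphisms of `T C_S(T)` preserving `P`. -/
theorem fixAll_invariant (hS : IsPGroup p S) (hE : E.IsNormalIn F p) (hPT : P ≤ T)
    (hfc : F.IsFullyCentralized P) {a : Ω → Ω}
    (ha : F.IsIso (T ⊔ centralizerIn S T) (T ⊔ centralizerIn S T) a)
    (haP : ∀ x ∈ P, a x ∈ P) (hy : y ∈ centralizerIn S T) (hfix : FixAll E F p P y) :
    FixAll E F p P (a y) := by
  obtain ⟨hEs, hF, hEi⟩ := id hE.1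
  intro f hf
  have hPle : P ≤ T ⊔ centralizerIn S T := hPT.trans le_sup_left
  have haPP : F.IsIso P P a := isIso_self ha hPle haP
  obtain ⟨b, hb, hbe⟩ := extend_ext hS hF hfc haPP
  obtain ⟨b', hb', hl, hr⟩ := hb.symm
  have hbP : ∀ x ∈ P, b x ∈ P := fun x hx => by rw [hbe x hx]; exact haP x hx
  have hbPP : F.IsIso P P b := isIso_self hb le_sup_left hbP
  have hb'P : ∀ x ∈ P, b' x ∈ P := fun x hx => by
    obtain ⟨z, hz, rfl⟩ := hbPP.surj hx
    rw [hl z (Subgroup.mem_sup_left hz)]; exact hz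
  have hbC : ∀ c ∈ centralizerIn S P, b c ∈ centralizerIn S P := fun c hc =>
    map_centralizer hb le_sup_left (image_self hb le_sup_left hbP) hc (Subgroup.mem_sup_right hc)
  obtain ⟨m, hm, hper⟩ := hf.per
  have hlift : Lift F P (fun x => b' (f (b x))) := by
    refine ⟨(hb.comp hf.lift.iso).comp hb', fun x hx => hb'P _ (hf.lift.pres _ (hbP x hx)), fun c hc => ?_⟩
    have hcW : c ∈ P ⊔ centralizerIn S P := Subgroup.mem_sup_right hc
    have hd := hf.lift.triv _ (hbC c hc)
    have e : f (b c) = b c * ((b c)⁻¹ * f (b c)) := (mul_inv_cancel_left _ _).symm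
    show c⁻¹ * b' (f (b c)) ∈ P
    rw [e, hb'.apply_mul (hb.mem hcW) (Subgroup.mem_sup_left hd), hl c hcW, inv_mul_cancel_left]
    exact hb'P _ hd
  have hbP' : F.IsIso P P b' := isIso_self hb' le_sup_left hb'P
  obtain ⟨f', hf', hf'e⟩ := hEi.iso_transport hbP' hPT hf.iso le_rfl le_rfl (P' := P) (Q' := P)
    (image_self hbP' le_rfl hb'P) (image_self hbP' le_rfl hb'P)
  have hisoE : E.IsIso P P (fun x => b' (f (b x))) := hf'.congr fun x hx => by
    have h1 := hf'e (b x) (hbP x hx)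
    rw [hl x (Subgroup.mem_sup_left hx)] at h1
    exact h1.symm
  have hperiod : ∀ x ∈ P ⊔ centralizerIn S P, (fun x => b' (f (b x)))^[m] x = x := by
    intro x hx
    have hk : ∀ k : ℕ, (fun x => b' (f (b x)))^[k] x = b' (f^[k] (b x)) ∧
        f^[k] (b x) ∈ P ⊔ centralizerIn S P := by
      intro k
      induction k with
      | zero => exact ⟨(hl x hx).symm, hb.mem hx⟩
      | succ k ih =>
        rw [Function.iterate_succ_apply', Function.iterate_succ_apply', ih.1]
        exact ⟨by rw [hr _ ih.2], hf.lift.iso.mem ih.2⟩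
    rw [(hk m).1, hper _ (hb.mem hx), hl x hx]
  have h1 : b' (f (b y)) = y := hfix _ ⟨hlift, hisoE, m, hm, hperiod⟩
  have hyP : y ∈ centralizerIn S P := ⟨hy.1, Subgroup.centralizer_le hPT hy.2⟩
  have hyW : y ∈ P ⊔ centralizerIn S P := Subgroup.mem_sup_right hyP
  have hfby : f (b y) = b y := by
    rw [← hr _ (hf.lift.iso.mem (hb.mem hyW)), h1]
  have hyT : y ∈ T ⊔ centralizerIn S T := Subgroup.mem_sup_right hy
  have h2 : F.IsIso (P ⊔ Subgroup.zpowers y) (P ⊔ Subgroup.zpowers (b y)) b :=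
    sup_image hb le_sup_left (Subgroup.zpowers_le.mpr hyW) (image_self hb le_sup_left hbP)
      (image_zpowers hb hyW)
  have h3 : F.IsIso (P ⊔ Subgroup.zpowers y) (P ⊔ Subgroup.zpowers (a y)) a :=
    sup_image ha hPle (Subgroup.zpowers_le.mpr hyT) (image_self ha hPle haP) (image_zpowers ha hyT)
  obtain ⟨c, hc, hcl, -⟩ := h2.symm
  have key := fixed_transport hS hF hfc hf.lift hm hper (hc.comp h3) le_sup_left
    (fun z hz => by
      obtain ⟨x, hx, rfl⟩ := hbPP.surj hz
      rw [hcl x (Subgroup.mem_sup_left hx)]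
      exact (hbe x hx).symm)
    (Subgroup.mem_sup_right (Subgroup.mem_zpowers _)) (hbC y hyP) hfby
  rwa [hcl y (Subgroup.mem_sup_right (Subgroup.mem_zpowers y))] at key

end Cfsg.FusionSystem.SubCent.Odd
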