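import Mathlib.GroupTheory.Sylow
import Mathlib.GroupTheory.Nilpotent
import Mathlib.GroupTheory.Index
import Mathlib.GroupTheory.GroupAction.Quotient
import Mathlib.Algebra.BigOperators.Group.Finset.Basic
import Mathlib.Data.Nat.Choose.Dvd
import Cfsg.Agent.Lib.Fusion.SubCent.Basic

/-!
Control of fixed points by the normalizer of a weakly closed subgroup generated by quadratic elements
(odd primes).
-/

set_option autoImplicit false
set_option linter.unusedSectionVars false

namespace Cfsg.FusionSystem.SubCent.Odd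

variable {G M : Type*} [Group G] [CommGroup M] [MulDistribMulAction G M]

/-- The element acts quadratically. -/
def Quad (M : Type*) [CommGroup M] [MulDistribMulAction G M] (r : G) : Prop :=
  ∀ v : M, r • (r • v / v) = r • v / v

theorem Quad.conj {r : G} (h : Quad M r) (g : G) : Quad M (g * r * g⁻¹) := by
  intro v
  have h1 := h (g⁻¹ • v)
  have e : (g * r * g⁻¹) • v / v = g • (r • (g⁻¹ • v) / (g⁻¹ • v)) := by
    rw [smul_div', smul_inv_smul, mul_smul, mul_smul]
  rw [e, mul_smul, mul_smul, inv_smul_smul, h1]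

theorem smul_prod_eq {α : Type*} (s : Finset α) (g : G) (f : α → M) :
    g • ∏ i ∈ s, f i = ∏ i ∈ s, g • f i :=
  map_prod (MulDistribMulAction.toMonoidHom M g) f s

/-- The product over the powers of a quadratic element of a power is a higher power. -/
theorem exists_pow_prod_powers {p : ℕ} (hp : p.Prime) (hp2 : p ≠ 2) {a : G} (ha : Quad M a) (k : ℕ)
    (u : M) : ∃ w : M, ∏ j ∈ Finset.range p, (a ^ j) • u ^ k = (w ^ k) ^ p := by
  obtain ⟨d, hd⟩ : p ∣ p.choose 2 :=
    hp.dvd_choose_self two_ne_zero (lt_of_le_of_ne hp.two_le (Ne.symm hp2))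
  refine ⟨u * (a • u / u) ^ d, ?_⟩
  have hj : ∀ j : ℕ, (a ^ j) • u = u * (a • u / u) ^ j := by
    intro j
    induction j with
    | zero => simp
    | succ j ih =>
      rw [pow_succ' a, mul_smul, ih, smul_mul', smul_pow', ha u, pow_succ',
        ← mul_assoc u, mul_div_cancel]
  have hprod : ∀ n : ℕ, ∏ j ∈ Finset.range n, (a ^ j) • u = u ^ n * (a • u / u) ^ n.choose 2 := by
    intro n
    induction n with
    | zero => simp
    | succ n ih =>
      rw [Finset.prod_range_succ, ih, hj n, Nat.choose_succ_succ', Nat.choose_one_right, pow_succ,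
        pow_add]
      ac_rfl
  calc ∏ j ∈ Finset.range p, (a ^ j) • u ^ k = ∏ j ∈ Finset.range p, ((a ^ j) • u) ^ k :=
        Finset.prod_congr rfl fun j _ => smul_pow' (a ^ j) u k
    _ = (∏ j ∈ Finset.range p, (a ^ j) • u) ^ k := Finset.prod_pow _ _ _
    _ = ((u * (a • u / u) ^ d) ^ k) ^ p := by
      rw [hprod, hd, pow_mul' _ p d, ← mul_pow, ← pow_mul, ← pow_mul, mul_comm p k]

variable [Finite G] {p : ℕ} [Fact p.Prime]

/-- An equivariant product over a finite set without fixed point is a higher power. -/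
theorem exists_pow_prod (hp2 : p ≠ 2) {X : Type*} [MulAction G X] [DecidableEq X] (k : ℕ)
    {W : Subgroup G} (hWp : IsPGroup p W)
    (hW : W = Subgroup.closure {r : G | r ∈ W ∧ Quad M r}) (val : X → M)
    (hval : ∀ g : G, ∀ x : X, val (g • x) = g • val x) (hk : ∀ x, ∃ y : M, val x = y ^ k)
    (B : Finset X) (hB : ∀ w ∈ W, ∀ x ∈ B, w • x ∈ B) (hmove : ∀ x ∈ B, ∃ w ∈ W, w • x ≠ x) :
    ∃ u : M, ∏ x ∈ B, val x = (u ^ k) ^ p := by
  classical
  have hp : p.Prime := Fact.out
  induction B using Finset.strongInduction with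
  | H B IH =>
    rcases B.eq_empty_or_nonempty with rfl | ⟨q, hq⟩
    · exact ⟨1, by simp⟩
    set O := B.filter (fun x => ∃ w ∈ W, w • q = x) with hO
    have hqO : q ∈ O := Finset.mem_filter.mpr ⟨hq, 1, W.one_mem, one_smul _ _⟩
    -- the rest
    obtain ⟨u₂, hu₂⟩ := IH (B \ O) (Finset.sdiff_ssubset (Finset.filter_subset _ _) ⟨q, hqO⟩)
      (fun w hw x hx => by
        obtain ⟨hxB, hxO⟩ := Finset.mem_sdiff.mp hx
        refine Finset.mem_sdiff.mpr ⟨hB w hw x hxB, fun h => hxO ?_⟩
        obtain ⟨-, w', hw', he⟩ := Finset.mem_filter.mp h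
        refine Finset.mem_filter.mpr ⟨hxB, w⁻¹ * w', W.mul_mem (W.inv_mem hw) hw', ?_⟩
        rw [mul_smul, he, inv_smul_smul])
      (fun x hx => hmove x (Finset.mem_sdiff.mp hx).1)
    -- a maximal subgroup over the stabilizer
    haveI : Group.IsNilpotent W := hWp.isNilpotent
    let St : Subgroup W := (MulAction.stabilizer G q).subgroupOf W
    have hSt : St ≠ ⊤ := fun e => by
      obtain ⟨w, hw, hne⟩ := hmove q hq
      exact hne (Subgroup.subgroupOf_eq_top.mp e hw)
    obtain ⟨X₀, hX₀, hStX⟩ := (eq_top_or_exists_le_coatom St).resolve_left hSt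
    haveI hX₀n : X₀.Normal :=
      Subgroup.NormalizerCondition.normal_of_coatom X₀ Group.normalizerCondition_of_isNilpotent hX₀
    -- a quadratic element outside it
    obtain ⟨a, haW, haq, haX⟩ : ∃ a, ∃ h : a ∈ W, Quad M a ∧ (⟨a, h⟩ : W) ∉ X₀ := by
      by_contra hcon
      push Not at hcon
      apply hX₀.1
      rw [eq_top_iff]
      have hle : W ≤ X₀.map W.subtype := by
        nth_rewrite 1 [hW]
        exact (Subgroup.closure_le _).mpr fun r hr => ⟨⟨r, hr.1⟩, hcon r hr.1 hr.2, rfl⟩
      intro w _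
      obtain ⟨z, hz, he⟩ := hle w.2
      exact Subtype.ext he ▸ hz
    -- the classes modulo `X₀`
    let aW : W := ⟨a, haW⟩
    let π := QuotientGroup.mk' X₀
    have hsimple : ∀ y : W ⧸ X₀, ∃ j < p, π aW ^ j = y := by
      have hpq : IsPGroup p (W ⧸ X₀) := hWp.to_quotient X₀
      have hne : π aW ≠ 1 := fun e => haX ((QuotientGroup.eq_one_iff aW).mp e)
      have hgen : ∀ g : W ⧸ X₀, g ≠ 1 → Subgroup.zpowers g = ⊤ := by
        intro g hg
        have h1 : X₀ < (Subgroup.zpowers g).comap π := by
          refine lt_of_le_of_ne (fun z hz => ?_) fun e => hg ?_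
          · show π z ∈ Subgroup.zpowers g
            rw [show π z = 1 from (QuotientGroup.eq_one_iff z).mpr hz]
            exact Subgroup.one_mem _
          · obtain ⟨z, rfl⟩ := QuotientGroup.mk'_surjective X₀ g
            exact (QuotientGroup.eq_one_iff z).mpr (e.ge (Subgroup.mem_zpowers (π z)))
        rw [eq_top_iff]
        intro y _
        obtain ⟨z, rfl⟩ := QuotientGroup.mk'_surjective X₀ y
        exact (hX₀.2 _ h1).ge (Subgroup.mem_top z)
      have hord : orderOf (π aW) = p := by
        obtain ⟨e, he⟩ := IsPGroup.iff_orderOf.mp hpq (π aW)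
        have hepos : e ≠ 0 := fun h => hne (by rw [← orderOf_eq_one_iff, he, h, pow_zero])
        by_contra hne'
        have h2 : π aW ^ p ≠ 1 := fun h => hne' (orderOf_eq_prime h hne)
        have h3 : π aW ∈ Subgroup.zpowers (π aW ^ p) := by rw [hgen _ h2]; exact Subgroup.mem_top _
        have h4 : orderOf (π aW) ∣ orderOf (π aW ^ p) := by
          obtain ⟨j, hj⟩ := (Submonoid.mem_powers_iff _ _).mp (mem_powers_iff_mem_zpowers.mpr h3)
          conv_lhs => rw [← hj]
          exact orderOf_pow_dvd j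
        rw [orderOf_pow, he, Nat.gcd_eq_right (dvd_pow_self p hepos)] at h4
        have h5 := Nat.le_of_dvd (Nat.div_pos (Nat.le_of_dvd (pow_pos hp.pos e) (dvd_pow_self p hepos))
          hp.pos) h4
        exact absurd h5 (not_le.mpr (Nat.div_lt_self (pow_pos hp.pos e) hp.one_lt))
      intro y
      have hy : y ∈ Subgroup.zpowers (π aW) := by rw [hgen _ hne]; exact Subgroup.mem_top _
      obtain ⟨j, hj⟩ := (Submonoid.mem_powers_iff _ _).mp (mem_powers_iff_mem_zpowers.mpr hy)
      exact ⟨j % p, Nat.mod_lt _ hp.pos, by rw [← hj, ← pow_mod_orderOf (π aW) j, hord]⟩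
    have hword : ∀ i < p, ∀ j < p, π aW ^ i = π aW ^ j → i = j := by
      intro i hi j hj h
      by_contra hij
      -- then some power `0 < d < p` of `π aW` is trivial
      wlog hlt : i < j generalizing i j with H
      · exact H j hj i hi h.symm (Ne.symm hij) (lt_of_le_of_ne (not_lt.mp hlt) (Ne.symm hij))
      have h1 : π aW ^ (j - i) = 1 := by
        rw [pow_sub _ hlt.le, ← h, mul_inv_cancel]
      have h2 := orderOf_dvd_of_pow_eq_one h1
      obtain ⟨e, he⟩ := IsPGroup.iff_orderOf.mp (hWp.to_quotient X₀) (π aW)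
      have hne : π aW ≠ 1 := fun e => haX ((QuotientGroup.eq_one_iff aW).mp e)
      have hepos : e ≠ 0 := fun h => hne (by rw [← orderOf_eq_one_iff, he, h, pow_zero])
      have h3 : p ≤ j - i := Nat.le_of_dvd (by omega)
        ((he ▸ dvd_pow_self p hepos : p ∣ orderOf (π aW)).trans h2)
      omega
    -- the blocks
    let Bl : ℕ → Finset X := fun j =>
      O.filter (fun x => ∃ w : W, (w : G) • q = x ∧ π w = π aW ^ j)
    have huniq : ∀ w w' : W, (w : G) • q = (w' : G) • q → π w = π w' := by
      intro w w' h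
      refine (QuotientGroup.eq.mpr (hStX ?_))
      show ((w⁻¹ * w' : W) : G) • q = q
      rw [Subgroup.coe_mul, mul_smul, ← h, Subgroup.coe_inv, inv_smul_smul]
    have hdisj : ((Finset.range p : Finset ℕ) : Set ℕ).PairwiseDisjoint Bl := by
      intro i hi j hj hij
      refine Finset.disjoint_left.mpr fun x hx hx' => hij ?_
      obtain ⟨-, w, hw, hwi⟩ := Finset.mem_filter.mp hx
      obtain ⟨-, w', hw', hwj⟩ := Finset.mem_filter.mp hx'
      exact hword i (Finset.mem_range.mp hi) j (Finset.mem_range.mp hj)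
        (hwi.symm.trans ((huniq w w' (hw.trans hw'.symm)).trans hwj))
    have hunion : (Finset.range p).disjiUnion Bl hdisj = O := by
      ext x
      constructor
      · intro hx
        obtain ⟨j, -, hj⟩ := Finset.mem_disjiUnion.mp hx
        exact (Finset.mem_filter.mp hj).1
      · intro hx
        obtain ⟨hxB, w, hw, rfl⟩ := Finset.mem_filter.mp hx
        obtain ⟨j, hj, hje⟩ := hsimple (π ⟨w, hw⟩)
        exact Finset.mem_disjiUnion.mpr ⟨j, Finset.mem_range.mpr hj,
          Finset.mem_filter.mpr ⟨hx, ⟨w, hw⟩, rfl, hje.symm⟩⟩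
    have hshift : ∀ j : ℕ, Bl j = (Bl 0).image (fun x => (a ^ j) • x) := by
      intro j
      ext x
      constructor
      · intro hx
        obtain ⟨hxO, w, hw, hwe⟩ := Finset.mem_filter.mp hx
        refine Finset.mem_image.mpr ⟨((a ^ j)⁻¹) • x, Finset.mem_filter.mpr ⟨?_,
          (aW ^ j)⁻¹ * w, ?_, by rw [map_mul, map_inv, map_pow, hwe, inv_mul_cancel, pow_zero]⟩,
          smul_inv_smul _ _⟩
        · obtain ⟨hxB, -⟩ := Finset.mem_filter.mp hxO
          refine Finset.mem_filter.mpr ⟨hB _ (W.inv_mem (W.pow_mem haW j)) _ hxB,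
            (a ^ j)⁻¹ * w, W.mul_mem (W.inv_mem (W.pow_mem haW j)) w.2, ?_⟩
          rw [mul_smul, hw]
        · show ((a ^ j)⁻¹ * (w : G)) • q = _
          rw [mul_smul, hw]
      · intro hx
        obtain ⟨x₀, hx₀, rfl⟩ := Finset.mem_image.mp hx
        obtain ⟨hxO, w, hw, hwe⟩ := Finset.mem_filter.mp hx₀
        refine Finset.mem_filter.mpr ⟨?_, aW ^ j * w, ?_,
          by rw [map_mul, map_pow, hwe, pow_zero, mul_one]⟩
        · obtain ⟨hxB, -⟩ := Finset.mem_filter.mp hxO
          refine Finset.mem_filter.mpr ⟨hB _ (W.pow_mem haW j) _ hxB,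
            a ^ j * w, W.mul_mem (W.pow_mem haW j) w.2, ?_⟩
          rw [mul_smul, hw]
        · show (a ^ j * (w : G)) • q = _
          rw [mul_smul, hw]
    -- the product over one block is a power
    choose y hy using hk
    obtain ⟨v, hv⟩ : ∃ v : M, ∏ x ∈ Bl 0, val x = v ^ k :=
      ⟨∏ x ∈ Bl 0, y x, by rw [← Finset.prod_pow]; exact Finset.prod_congr rfl fun x _ => hy x⟩
    obtain ⟨u₁, hu₁⟩ := exists_pow_prod_powers hp hp2 haq k v
    refine ⟨u₂ * u₁, ?_⟩
    rw [← Finset.prod_sdiff (Finset.filter_subset _ B : O ⊆ B), hu₂, mul_pow, mul_pow, ← hu₁, ← hv]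
    congr 1
    rw [show ∏ x ∈ O, val x = ∏ x ∈ (Finset.range p).disjiUnion Bl hdisj, val x by rw [hunion],
      Finset.prod_disjiUnion]
    refine Finset.prod_congr rfl fun j _ => ?_
    rw [hshift j, Finset.prod_image fun x _ x' _ h => MulAction.injective _ h, smul_prod_eq]
    exact Finset.prod_congr rfl fun x _ => hval _ _

/-- The elements fixed by the normalizer of `W`, generated by quadratic elements and weakly closed in a
Sylow subgroup, are fixed by the whole group. -/
theorem fixed_of_normalizer [Finite M] (hp2 : p ≠ 2) (hM : IsPGroup p M) (R : Sylow p G)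
    {W : Subgroup G} (hWR : W = Subgroup.closure {r : G | r ∈ (R : Subgroup G) ∧ Quad M r}) {x : M}
    (hx : ∀ n ∈ Subgroup.normalizer (W : Set G), n • x = x) (g : G) : g • x = x := by
  classical
  have hp : p.Prime := Fact.out
  have hWle : W ≤ R := hWR ▸ (Subgroup.closure_le _).mpr fun r hr => hr.1
  set N := Subgroup.normalizer (W : Set G) with hN
  haveI := Fintype.ofFinite (G ⧸ N)
  have hgen : W = Subgroup.closure {r : G | r ∈ W ∧ Quad M r} := by
    refine le_antisymm ?_ ((Subgroup.closure_le _).mpr fun r hr => hr.1)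
    nth_rewrite 1 [hWR]
    exact Subgroup.closure_mono fun r hr => ⟨hWR ▸ Subgroup.subset_closure hr, hr.2⟩
  -- `W` moves all the other cosets
  have hfix : ∀ q : G ⧸ N, (∀ w ∈ W, w • q = q) → q = QuotientGroup.mk 1 := by
    intro q hq
    induction q using QuotientGroup.induction_on with
    | H h =>
      -- the conjugate of `W` lies in `N`
      have hle : ∀ w ∈ W, h⁻¹ * w * h ∈ N := fun w hw => by
        have h1 := hq w hw
        rw [MulAction.Quotient.smul_mk, smul_eq_mul, eq_comm, QuotientGroup.eq] at h1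
        simpa [mul_assoc] using h1
      let W' : Subgroup G := W.map (MulAut.conj h⁻¹).toMonoidHom
      have hW'N : W' ≤ N := by
        rintro _ ⟨w, hw, rfl⟩
        simpa using hle w hw
      have hW'p : IsPGroup p W' := (R.2.to_le hWle).map _
      have hRN : (R : Subgroup G) ≤ N := by
        intro r hr
        refine Subgroup.mem_normalizer_iff.mpr fun z => ?_
        have hin : ∀ s ∈ (R : Subgroup G), ∀ z ∈ W, s * z * s⁻¹ ∈ W := by
          intro s hs z hz
          rw [hWR] at hz ⊢
          induction hz using Subgroup.closure_induction with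
          | mem y hy =>
            exact Subgroup.subset_closure
              ⟨(R : Subgroup G).mul_mem ((R : Subgroup G).mul_mem hs hy.1)
                ((R : Subgroup G).inv_mem hs), hy.2.conj s⟩
          | one => simp
          | mul u v _ _ hu hv => simpa [mul_assoc] using Subgroup.mul_mem _ hu hv
          | inv u _ hu => simpa [mul_assoc] using Subgroup.inv_mem _ hu
        refine ⟨hin r hr z, fun h' => ?_⟩
        have := hin r⁻¹ ((R : Subgroup G).inv_mem hr) _ h'
        simpa [mul_assoc] using this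
      obtain ⟨V, hV⟩ := (hW'p.comap_of_injective N.subtype N.subtype_injective).exists_le_sylow
      obtain ⟨n, hn⟩ := MulAction.exists_smul_eq N V (R.subtype hRN)
      have hW'' : ∀ w ∈ W, (n : G) * (h⁻¹ * w * h) * (n : G)⁻¹ ∈ (R : Subgroup G) := fun w hw => by
        have h1 : (⟨h⁻¹ * w * h, hle w hw⟩ : N) ∈ (V : Subgroup N) := hV (by
          show h⁻¹ * w * h ∈ W'
          exact ⟨w, hw, by simp⟩)
        have h3 : n * ⟨h⁻¹ * w * h, hle w hw⟩ * n⁻¹ ∈ ((n • V : Sylow p N) : Subgroup N) := by
          rw [Sylow.coe_subgroup_smul]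
          exact Subgroup.mem_pointwise_smul_iff_inv_smul_mem.mpr (by simpa [mul_assoc] using h1)
        have h2 := hn ▸ h3
        simpa [Sylow.coe_subtype, Subgroup.mem_subgroupOf] using h2
      have hnh : (n : G) * h⁻¹ ∈ N := by
        have hfin : ∀ w ∈ W, (n : G) * h⁻¹ * w * ((n : G) * h⁻¹)⁻¹ ∈ W := by
          intro w hw
          have hw' := hgen ▸ hw
          induction hw' using Subgroup.closure_induction with
          | mem y hy =>
            exact hWR.ge (Subgroup.subset_closure ⟨by simpa [mul_assoc] using hW'' y hy.1, hy.2.conj _⟩)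
          | one => simp
          | mul u v hu' hv' hu hv =>
            have := W.mul_mem (hu (hgen ▸ hu')) (hv (hgen ▸ hv'))
            simpa [mul_assoc] using this
          | inv u hu' hu => simpa [mul_assoc] using W.inv_mem (hu (hgen ▸ hu'))
        exact Subgroup.mem_normalizer_fintype hfin
      refine QuotientGroup.eq.mpr ?_
      rw [mul_one]
      simpa using N.mul_mem (N.inv_mem n.2) hnh
  obtain ⟨e, he⟩ : ∃ e : ℕ, ∀ v : M, v ^ p ^ e = 1 := by
    obtain ⟨e, he⟩ := IsPGroup.iff_card.mp hM
    exact ⟨e, fun v => he ▸ pow_card_eq_one'⟩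
  suffices key : ∀ d i : ℕ, e ≤ i + d → ∀ y : M, (∀ n ∈ N, n • y = y) → (∃ y₀, y = y₀ ^ p ^ i) →
      ∀ g : G, g • y = y from key e 0 (by omega) x hx ⟨x, by simp⟩ g
  intro d
  induction d with
  | zero =>
    intro i hi y _ ⟨y₀, hy₀⟩ g
    have : y = 1 := by
      rw [hy₀]
      obtain ⟨j, rfl⟩ := Nat.exists_eq_add_of_le (by simpa using hi : e ≤ i)
      rw [pow_add, pow_mul, he, one_pow]
    rw [this, smul_one]
  | succ d ih =>
    intro i hi y hy ⟨y₀, hy₀⟩ g
    let val : G ⧸ N → M := fun q => Quotient.liftOn' q (fun h => h • y) (fun a b hab => by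
      rw [QuotientGroup.leftRel_apply] at hab
      have := hy _ hab
      rw [mul_smul] at this
      conv_rhs => rw [← smul_inv_smul a (b • y), this])
    have hval : ∀ g : G, ∀ q, val (g • q) = g • val q := by
      intro g q
      induction q using QuotientGroup.induction_on with
      | H h => exact mul_smul g h y
    have hk : ∀ q, ∃ z : M, val q = z ^ p ^ i := by
      intro q
      induction q using QuotientGroup.induction_on with
      | H h => exact ⟨h • y₀, by show h • y = _; rw [hy₀, smul_pow']⟩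
    obtain ⟨u, hu⟩ := exists_pow_prod hp2 (p ^ i) (R.2.to_le hWle) hgen val hval hk
      (Finset.univ.erase (QuotientGroup.mk 1)) (fun w hw q hq => by
        refine Finset.mem_erase.mpr ⟨fun h => (Finset.mem_erase.mp hq).1 ?_, Finset.mem_univ _⟩
        have h1 : w⁻¹ • (QuotientGroup.mk 1 : G ⧸ N) = QuotientGroup.mk 1 := by
          rw [MulAction.Quotient.smul_mk, QuotientGroup.eq]
          simpa using Subgroup.le_normalizer hw
        rw [← inv_smul_smul w q, h, h1])
      (fun q hq => by
        by_contra hcon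
        push Not at hcon
        exact (Finset.mem_erase.mp hq).1 (hfix q hcon))
    have htot : ∀ g : G, g • ∏ q, val q = ∏ q, val q := by
      intro g
      rw [smul_prod_eq]
      exact Fintype.prod_equiv (MulAction.toPerm g) _ _ fun q => (hval g q).symm
    have hsplit : ∏ q, val q = y * (u ^ p ^ i) ^ p := by
      rw [← Finset.mul_prod_erase Finset.univ val (Finset.mem_univ (QuotientGroup.mk 1)), hu]
      congr 1
      exact one_smul G y
    have h1 : ∀ g : G, g • ((u ^ p ^ i) ^ p) = (u ^ p ^ i) ^ p := by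
      refine ih (i + 1) (by omega) _ (fun n hn => ?_) ⟨u, by rw [pow_succ, pow_mul]⟩
      have h2 := htot n
      rw [hsplit, smul_mul', hy n hn] at h2
      exact mul_left_cancel h2
    have h2 := htot g
    rw [hsplit, smul_mul', h1 g] at h2
    exact mul_right_cancel h2

end Cfsg.FusionSystem.SubCent.Odd
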