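import Cfsg.Agent.Lib.Fusion.SubCent.Basic
import Cfsg.Agent.Lib.ZJ.ReplacementIn

/-!
The abelian rank, the Thompson subgroup and quadratic elements, inside an ambient group.
-/

set_option autoImplicit false
set_option linter.unusedSectionVars false
set_option linter.style.haveILetI false

namespace Cfsg.FusionSystem.SubCent.Odd

open scoped commutatorElement

universe u

variable {Ω : Type u} [Group Ω] {S : Subgroup Ω} {F : FusionSystem S} {U U' V Y : Subgroup Ω}
  {f : Ω → Ω}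

/-- The abelian subgroups of `U`. -/
def abSet (U : Subgroup Ω) : Set (Subgroup Ω) := {A | A ≤ U ∧ ∀ a ∈ A, ∀ b ∈ A, a * b = b * a}

/-- The largest order of an abelian subgroup of `U`. -/
noncomputable def abRank (U : Subgroup Ω) : ℕ := sSup ((fun A : Subgroup Ω => Nat.card A) '' abSet U)

/-- The abelian subgroups of largest order. -/
def abMaxes (U : Subgroup Ω) : Set (Subgroup Ω) := {A | A ∈ abSet U ∧ Nat.card A = abRank U}

/-- The Thompson subgroup. -/
def thompson (U : Subgroup Ω) : Subgroup Ω := sSup (abMaxes U)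

/-- The measure used for the induction. -/
noncomputable def key (S U : Subgroup Ω) : ℕ :=
  (abRank U * (Nat.card S + 1) + Nat.card ↥(thompson U)) * (Nat.card S + 1) + Nat.card U

theorem thompson_le : thompson U ≤ U := sSup_le fun _ hA => hA.1.1

theorem card_le_abRank [Finite U] {A : Subgroup Ω} (hA : A ∈ abSet U) : Nat.card A ≤ abRank U :=
  le_csSup ⟨Nat.card U, by rintro _ ⟨B, hB, rfl⟩; exact Subgroup.card_le_of_le hB.1⟩ ⟨A, hA, rfl⟩

theorem exists_abMax [Finite U] : ∃ A, A ∈ abMaxes U := by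
  obtain ⟨A, hA, he⟩ := Nat.sSup_mem (s := (fun A : Subgroup Ω => Nat.card A) '' abSet U)
    ⟨_, ⊥, ⟨bot_le, fun a ha b hb => by
      rw [Subgroup.mem_bot.mp ha, Subgroup.mem_bot.mp hb]⟩, rfl⟩
    ⟨Nat.card U, by rintro _ ⟨B, hB, rfl⟩; exact Subgroup.card_le_of_le hB.1⟩
  exact ⟨A, hA, he⟩

theorem abRank_mono [Finite U'] (h : U ≤ U') : abRank U ≤ abRank U' := by
  haveI := finite_of_le h
  obtain ⟨A, hA, he⟩ := exists_abMax (U := U)
  exact he ▸ card_le_abRank ⟨hA.1.trans h, hA.2⟩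

theorem thompson_mono [Finite U'] (h : U ≤ U') (he : abRank U = abRank U') :
    thompson U ≤ thompson U' :=
  sSup_le fun _ hA => le_sSup ⟨⟨hA.1.1.trans h, hA.1.2⟩, hA.2.trans he⟩

theorem abRank_eq_of_between [Finite U] (hV : thompson U ≤ V) (hVU : V ≤ U) : abRank V = abRank U := by
  haveI := finite_of_le hVU
  obtain ⟨A, hA, he⟩ := exists_abMax (U := U)
  refine le_antisymm (abRank_mono hVU) (he ▸ card_le_abRank ⟨?_, hA.2⟩)
  exact (le_sSup (show A ∈ abMaxes U from ⟨hA, he⟩)).trans hV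

theorem thompson_eq_of_between [Finite U] (hV : thompson U ≤ V) (hVU : V ≤ U) :
    thompson V = thompson U := by
  have e := abRank_eq_of_between hV hVU
  refine le_antisymm (thompson_mono hVU e) (sSup_le fun A hA => le_sSup ⟨⟨?_, hA.1.2⟩, hA.2.trans e.symm⟩)
  exact (le_sSup hA).trans hV

/-- A central element lies in every abelian subgroup of largest order. -/
theorem center_le_abMax [Finite U] {A : Subgroup Ω} (hA : A ∈ abMaxes U) :
    U ⊓ Subgroup.centralizer (U : Set Ω) ≤ A := by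
  intro z hz
  have hc : ∀ a ∈ A ⊔ Subgroup.zpowers z, ∀ b ∈ A ⊔ Subgroup.zpowers z, a * b = b * a := by
    have hgen : A ⊔ Subgroup.zpowers z = Subgroup.closure ((A : Set Ω) ∪ {z}) := by
      rw [Subgroup.closure_union, Subgroup.closure_eq, Subgroup.zpowers_eq_closure]
    rw [hgen]
    haveI := Subgroup.isMulCommutative_closure (k := (A : Set Ω) ∪ {z}) (by
      rintro a (ha | ha) b (hb | hb)
      · exact hA.1.2 a ha b hb
      · rw [Set.mem_singleton_iff.mp hb]; exact Subgroup.mem_centralizer_iff.mp hz.2 a (hA.1.1 ha)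
      · rw [Set.mem_singleton_iff.mp ha]; exact (Subgroup.mem_centralizer_iff.mp hz.2 b (hA.1.1 hb)).symm
      · rw [Set.mem_singleton_iff.mp ha, Set.mem_singleton_iff.mp hb])
    exact fun a ha b hb => Subgroup.mul_comm_of_mem_isMulCommutative _ ha hb
  have hle : A ⊔ Subgroup.zpowers z ≤ U := sup_le hA.1.1 (Subgroup.zpowers_le.mpr hz.1)
  have h1 := card_le_abRank ⟨hle, hc⟩
  haveI := finite_of_le hle
  rw [← hA.2] at h1
  rw [Subgroup.eq_of_le_of_card_ge le_sup_left h1]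
  exact Subgroup.mem_sup_right (Subgroup.mem_zpowers z)

theorem center_le_thompson [Finite U] : U ⊓ Subgroup.centralizer (U : Set Ω) ≤ thompson U := by
  obtain ⟨A, hA⟩ := exists_abMax (U := U)
  exact (center_le_abMax hA).trans (le_sSup hA)

/-! ### Images -/

theorem abSet_image (h : F.IsIso U U' f) {A : Subgroup Ω} (hA : A ∈ abSet U) :
    ∃ A' ∈ abSet U', Nat.card A' = Nat.card A ∧ ∀ y, y ∈ A' ↔ ∃ x ∈ A, f x = y := by
  obtain ⟨A', hA', hle, hm⟩ := h.restrict hA.1
  refine ⟨A', ⟨hle, fun a ha b hb => ?_⟩, hA'.card_eq.symm, hm⟩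
  obtain ⟨x, hx, rfl⟩ := (hm a).mp ha
  obtain ⟨y, hy, rfl⟩ := (hm b).mp hb
  rw [← h.apply_mul (hA.1 hx) (hA.1 hy), ← h.apply_mul (hA.1 hy) (hA.1 hx), hA.2 x hx y hy]

theorem abRank_iso [Finite S] (h : F.IsIso U U' f) : abRank U = abRank U' := by
  haveI := finite_of_le h.le_left
  haveI := finite_of_le h.le_right
  obtain ⟨g, hg, -, -⟩ := h.symm
  obtain ⟨A, hA, he⟩ := exists_abMax (U := U)
  obtain ⟨A₁, hA₁, he₁⟩ := exists_abMax (U := U')
  obtain ⟨A', hA', hc, -⟩ := abSet_image h hA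
  obtain ⟨A'', hA'', hc', -⟩ := abSet_image hg hA₁
  have h1 := card_le_abRank hA'
  have h2 := card_le_abRank hA''
  rw [hc, he] at h1
  rw [hc', he₁] at h2
  exact le_antisymm h1 h2

theorem thompson_maps [Finite S] (h : F.IsIso U U' f) :
    ∀ x ∈ thompson U, f x ∈ thompson U' := by
  haveI := finite_of_le h.le_left
  intro x hx
  rw [thompson, sSup_eq_iSup', Subgroup.iSup_eq_closure] at hx
  have hle : Subgroup.closure (⋃ A : abMaxes U, ((A : Subgroup Ω) : Set Ω)) ≤ U :=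
    (Subgroup.closure_le _).mpr (Set.iUnion_subset fun A => A.2.1.1)
  induction hx using Subgroup.closure_induction with
  | mem x hx =>
    obtain ⟨⟨A, hA⟩, hxA⟩ := Set.mem_iUnion.mp hx
    obtain ⟨A', hA', hc, hm⟩ := abSet_image h hA.1
    have h' : A' ∈ abMaxes U' := ⟨hA', by rw [hc, hA.2, abRank_iso h]⟩
    exact (le_sSup h' : A' ≤ thompson U') ((hm _).mpr ⟨x, hxA, rfl⟩)
  | one => rw [h.apply_one]; exact Subgroup.one_mem _
  | mul a b ha hb iha ihb => rw [h.apply_mul (hle ha) (hle hb)]; exact Subgroup.mul_mem _ iha ihb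
  | inv a ha iha => rw [h.apply_inv (hle ha)]; exact Subgroup.inv_mem _ iha

theorem thompson_image [Finite S] (h : F.IsIso U U' f) :
    ∀ y, y ∈ thompson U' ↔ ∃ x ∈ thompson U, f x = y := by
  obtain ⟨g, hg, hl, hr⟩ := h.symm
  intro y
  exact ⟨fun hy => ⟨g y, thompson_maps hg y hy, hr y (thompson_le hy)⟩,
    fun ⟨x, hx, he⟩ => he ▸ thompson_maps h x hx⟩

theorem key_iso [Finite S] (h : F.IsIso U U' f) : key S U = key S U' := by
  unfold key
  rw [abRank_iso h, h.card_eq, (h.restrict' thompson_le (thompson_image h)).card_eq]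

/-! ### Comparison -/

theorem abRank_le_card [Finite U] : abRank U ≤ Nat.card U := by
  obtain ⟨A, hA, he⟩ := exists_abMax (U := U)
  exact he ▸ Subgroup.card_le_of_le hA.1

theorem key_lt_of_thompson [Finite S] (hU : U ≤ S) (hU' : U' ≤ S)
    (h : abRank U < abRank U' ∨
      abRank U = abRank U' ∧ Nat.card ↥(thompson U) < Nat.card ↥(thompson U')) :
    key S U < key S U' := by
  haveI := finite_of_le hU
  haveI := finite_of_le hU'
  have h1 : Nat.card U < Nat.card S + 1 := Nat.lt_succ_of_le (Subgroup.card_le_of_le hU)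
  have h2 : Nat.card ↥(thompson U) < Nat.card S + 1 :=
    Nat.lt_succ_of_le ((Subgroup.card_le_of_le (thompson_le.trans hU)))
  have h3 : abRank U * (Nat.card S + 1) + Nat.card ↥(thompson U) + 1 ≤
      abRank U' * (Nat.card S + 1) + Nat.card ↥(thompson U') := by
    rcases h with h | ⟨e, h⟩
    · calc abRank U * (Nat.card S + 1) + Nat.card ↥(thompson U) + 1
          ≤ (abRank U + 1) * (Nat.card S + 1) := by rw [Nat.succ_mul]; omega
        _ ≤ abRank U' * (Nat.card S + 1) := Nat.mul_le_mul_right _ h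
        _ ≤ _ := Nat.le_add_right _ _
    · rw [e]; omega
  have h4 := Nat.mul_le_mul_right (Nat.card S + 1) h3
  unfold key
  rw [Nat.succ_mul] at h4
  omega

theorem key_lt_of_lt [Finite S] (hU' : U' ≤ S) (h : U < U') : key S U < key S U' := by
  haveI := finite_of_le hU'
  haveI := finite_of_le h.le
  rcases (abRank_mono h.le).lt_or_eq with h1 | h1
  · exact key_lt_of_thompson (h.le.trans hU') hU' (Or.inl h1)
  haveI := finite_of_le (thompson_le : thompson U' ≤ U')
  rcases (Subgroup.card_le_of_le (thompson_mono h.le h1)).lt_or_eq with h2 | h2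
  · exact key_lt_of_thompson (h.le.trans hU') hU' (Or.inr ⟨h1, h2⟩)
  unfold key
  rw [h1, h2]
  exact Nat.add_lt_add_left (card_lt_of_lt h) _

theorem key_mono [Finite S] (hU' : U' ≤ S) (h : U ≤ U') : key S U ≤ key S U' := by
  rcases h.lt_or_eq with h | h
  · exact (key_lt_of_lt hU' h).le
  · rw [h]

/-! ### Quadratic elements -/

/-- `t` acts quadratically on `D`. -/
def QuadOn (t : Ω) (D : Subgroup Ω) : Prop :=
  ∀ d ∈ D, t * (t * d * t⁻¹ * d⁻¹) * t⁻¹ = t * d * t⁻¹ * d⁻¹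

/-- The centre, inside the ambient group. -/
abbrev zen (U : Subgroup Ω) : Subgroup Ω := U ⊓ Subgroup.centralizer (U : Set Ω)

theorem quadOn_of_mem_normalizers {A D : Subgroup Ω} (hA : ∀ a ∈ A, ∀ b ∈ A, a * b = b * a)
    (hDA : D ≤ Subgroup.normalizer (A : Set Ω)) {t : Ω} (ht : t ∈ A) : QuadOn t D := by
  intro d hd
  have h1 : t * d * t⁻¹ * d⁻¹ ∈ A := by
    have h2 := A.mul_mem ht ((Subgroup.mem_normalizer_iff.mp (hDA hd) _).mp (A.inv_mem ht))
    simpa [mul_assoc] using h2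
  rw [hA t ht _ h1, mul_inv_cancel_right]

/-- An abelian subgroup of largest order outside `Y` all of whose elements act quadratically. -/
theorem exists_quad_abMax {p : ℕ} [Fact p.Prime] (hp2 : p ≠ 2) {M : Subgroup Ω} [Finite M]
    (hM : IsPGroup p M) (hYM : Y ≤ M) (hMY : M ≤ Subgroup.normalizer (Y : Set Ω))
    (hnot : ∃ A ∈ abMaxes M, ¬ A ≤ Y) :
    ∃ A ∈ abMaxes M, ¬ A ≤ Y ∧ ∀ t ∈ A, QuadOn t (zen Y) := by
  set D := zen Y
  have hfin : {A : Subgroup Ω | A ∈ abMaxes M ∧ ¬ A ≤ Y}.Finite := by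
    refine (Set.finite_range (fun B : Subgroup M => B.map M.subtype)).subset fun A hA => ?_
    exact ⟨A.subgroupOf M, Subgroup.map_subgroupOf_eq_of_le hA.1.1.1⟩
  obtain ⟨A, ⟨hA, hAY⟩, hmax⟩ :=
    Set.exists_max_image _ (fun A : Subgroup Ω => Nat.card ↥(A ⊓ D)) hfin
      (let ⟨A, hA, hA'⟩ := hnot; ⟨A, hA, hA'⟩)
  refine ⟨A, hA, hAY, fun t ht => ?_⟩
  by_cases hDA : D ≤ Subgroup.normalizer (A : Set Ω)
  · exact quadOn_of_mem_normalizers hA.1.2 hDA ht
  exfalso
  have hDM : D ≤ M := inf_le_left.trans hYM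
  have hDn : M ≤ Subgroup.normalizer (D : Set Ω) := fun m hm => by
    have hcent : m ∈ Subgroup.normalizer ((Subgroup.centralizer (Y : Set Ω) : Subgroup Ω) : Set Ω) := by
      refine Subgroup.mem_normalizer_iff.mpr fun c => ?_
      simp only [SetLike.mem_coe, Subgroup.mem_centralizer_iff]
      refine ⟨fun hc y hy => ?_, fun hc y hy => ?_⟩
      · have h1 := hc _ ((Subgroup.mem_normalizer_iff''.mp (hMY hm) y).mp hy)
        calc y * (m * c * m⁻¹) = m * (m⁻¹ * y * m * c) * m⁻¹ := by group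
          _ = m * (c * (m⁻¹ * y * m)) * m⁻¹ := by rw [h1]
          _ = m * c * m⁻¹ * y := by group
      · have h1 := hc _ ((Subgroup.mem_normalizer_iff.mp (hMY hm) y).mp hy)
        calc y * c = m⁻¹ * (m * y * m⁻¹ * (m * c * m⁻¹)) * m := by group
          _ = m⁻¹ * (m * c * m⁻¹ * (m * y * m⁻¹)) * m := by rw [h1]
          _ = c * y := by group
    refine Subgroup.mem_normalizer_iff.mpr fun c => ?_
    exact and_congr (Subgroup.mem_normalizer_iff.mp (hMY hm) c) (Subgroup.mem_normalizer_iff.mp hcent c)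
  let A' : Subgroup M := A.subgroupOf M
  let D' : Subgroup M := D.subgroupOf M
  have hA' : A' ∈ CfsgLib.ZJ.goodMax 0 (⊤ : Subgroup M) := by
    refine ⟨le_top, ⟨fun a ha b hb => Subtype.ext (hA.1.2 _ ha _ hb), fun _ _ => pow_zero _⟩,
      fun B _ hB => ?_⟩
    rw [Nat.card_congr (Subgroup.subgroupOfEquivOfLe hA.1.1).toEquiv, hA.2,
      Nat.card_congr (Subgroup.equivMapOfInjective B M.subtype M.subtype_injective).toEquiv]
    refine card_le_abRank ⟨Subgroup.map_subtype_le B, ?_⟩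
    rintro _ ⟨a, ha, rfl⟩ _ ⟨b, hb, rfl⟩
    exact congrArg Subtype.val (hB.1 a ha b hb)
  have hDc : ∀ a ∈ D', ∀ b ∈ D', a * b = b * a := fun a ha b hb =>
    Subtype.ext (Subgroup.mem_centralizer_iff.mp hb.2 _ ha.1)
  have hcomm : ∀ a ∈ D', ∀ b ∈ D', ⁅a, b⁆ = 1 := fun a ha b hb =>
    commutatorElement_eq_one_iff_commute.mpr (hDc a ha b hb)
  obtain ⟨B, hB, hlt, hBn⟩ := CfsgLib.ZJ.replacement_in hp2 (Or.inl rfl) (P := (⊤ : Subgroup M))
    (D := ⊤) (B := D') (A := A') (hM.of_equiv Subgroup.topEquiv.symm) le_top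
    (fun m _ => Subgroup.mem_normalizer_iff.mpr fun c => Subgroup.mem_normalizer_iff.mp (hDn m.2) c)
    le_top Subgroup.le_normalizer
    (fun a ha b hb c _ => by rw [hcomm a ha b hb, one_mul, mul_one]) hA'
    (fun a ha b hb => by rw [hcomm a ha b hb]; exact A'.one_mem)
    (fun h => hDA fun d hd => by
      have h1 := h (show (⟨d, hDM hd⟩ : M) ∈ D' from hd)
      have h3 := (Subgroup.subgroupOf_normalizer_eq hA.1.1).ge h1
      exact h3)
  let B₁ := B.map M.subtype
  have hB₁ : B₁ ∈ abMaxes M := by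
    refine ⟨⟨Subgroup.map_subtype_le B, ?_⟩, ?_⟩
    · rintro _ ⟨a, ha, rfl⟩ _ ⟨b, hb, rfl⟩
      exact congrArg Subtype.val (hB.2.1.1 a ha b hb)
    · rw [← Nat.card_congr (Subgroup.equivMapOfInjective B M.subtype M.subtype_injective).toEquiv, ← hA.2,
        ← Nat.card_congr (Subgroup.subgroupOfEquivOfLe hA.1.1).toEquiv]
      exact le_antisymm (hA'.2.2 B le_top hB.2.1) (hB.2.2 A' le_top hA'.2.1)
  have hlt' : Nat.card ↥(A ⊓ D) < Nat.card ↥(B₁ ⊓ D) := by
    have e1 : (A' ⊓ D').map M.subtype = A ⊓ D := by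
      rw [Subgroup.map_inf _ _ _ M.subtype_injective, Subgroup.map_subgroupOf_eq_of_le hA.1.1,
        Subgroup.map_subgroupOf_eq_of_le hDM]
    have e2 : (B ⊓ D').map M.subtype = B₁ ⊓ D := by
      rw [Subgroup.map_inf _ _ _ M.subtype_injective, Subgroup.map_subgroupOf_eq_of_le hDM]
    rw [← e1, ← e2, Subgroup.card_map_of_injective M.subtype_injective,
      Subgroup.card_map_of_injective M.subtype_injective]
    exact card_lt_of_lt hlt
  have hB₁Y : B₁ ≤ Y := by
    by_contra h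
    exact absurd (hmax B₁ ⟨hB₁, h⟩) (not_le.mpr hlt')
  -- then the centre of `Y` lies in `B₁`
  haveI := finite_of_le hYM
  have hDB : D ≤ B₁ := center_le_abMax (U := Y) ⟨⟨hB₁Y, hB₁.1.2⟩, le_antisymm
    (card_le_abRank ⟨hB₁Y, hB₁.1.2⟩) (hB₁.2 ▸ abRank_mono hYM)⟩
  refine hDA fun d hd => ?_
  obtain ⟨z, hz, hze⟩ := hDB hd
  have h1 := (Subgroup.subgroupOf_normalizer_eq hA.1.1).ge (hBn hz)
  rw [← hze]
  exact h1

end Cfsg.FusionSystem.SubCent.Odd
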