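import Cfsg.Agent.Lib.Fusion.SubCent.Centralizer
import Cfsg.Agent.Lib.Fusion.SubCent.Odd.FixedPoints
import Cfsg.Agent.Lib.Fusion.SubCent.Odd.Key
import Mathlib.GroupTheory.Transfer

/-!
Lifts of order prime to `p` fix an element of `C_S(T)` as soon as the maps on the subgroup generated
by the quadratic elements do (odd primes).
-/

set_option autoImplicit false
set_option linter.unusedSectionVars false
set_option linter.style.haveILetI false

namespace Cfsg.FusionSystem.SubCent.Odd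

universe u

variable {Ω : Type u} [Group Ω] {S T : Subgroup Ω} {F : FusionSystem S} {E : FusionSystem T}
  {P Q R : Subgroup Ω} {f g : Ω → Ω} {p : ℕ}

/-- A lift of order prime to `p` of an automorphism of the subsystem. -/
structure PLift (E : FusionSystem T) (F : FusionSystem S) (p : ℕ) (P : Subgroup Ω) (f : Ω → Ω) : Prop where
  lift : Lift F P f
  iso : E.IsIso P P f
  per : ∃ m : ℕ, ¬ p ∣ m ∧ ∀ x ∈ P ⊔ centralizerIn S P, f^[m] x = x

/-- The subgroup generated by the elements of `N_T(P)` acting quadratically on `Z(P)`. -/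
def quadSub (T P : Subgroup Ω) : Subgroup Ω :=
  Subgroup.closure {t | t ∈ normalizerIn T P ∧ QuadOn t (zen P)}

theorem quadSub_le : quadSub T P ≤ normalizerIn T P :=
  (Subgroup.closure_le _).mpr fun _ ht => ht.1

theorem le_quadSub (hPT : P ≤ T) : P ≤ quadSub T P := fun t ht =>
  Subgroup.subset_closure ⟨le_normalizerIn hPT ht, fun d hd => by
    have h1 : t * d * t⁻¹ * d⁻¹ = 1 := by
      rw [Subgroup.mem_centralizer_iff.mp hd.2 t ht, mul_inv_cancel_right, mul_inv_cancel]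
    rw [h1, mul_one, mul_inv_cancel]⟩

variable [Finite S]

/-- Conjugation by an element of `N_T(P)` is a lift. -/
theorem lift_conj (hT : F.StronglyClosed T) (hP : P ≤ T) (hC : centralizerIn T P ≤ P) {t : Ω}
    (ht : t ∈ normalizerIn T P) : Lift F P (fun x => t * x * t⁻¹) := by
  have hPS := hP.trans hT.1
  have hfull : F.IsIso S S (fun x => t * x * t⁻¹) :=
    isIso_conj_normalizer le_rfl (hT.1 ht.1) (Subgroup.le_normalizer (hT.1 ht.1))
  have hPP : ∀ x ∈ P, t * x * t⁻¹ ∈ P := fun x hx => (Subgroup.mem_normalizer_iff.mp ht.2 x).mp hx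
  have hCC : ∀ c ∈ centralizerIn S P, t * c * t⁻¹ ∈ centralizerIn S P := fun c hc =>
    map_centralizer hfull hPS (image_self hfull hPS hPP) hc (centralizerIn_le hc)
  refine ⟨sup_image hfull hPS centralizerIn_le (image_self hfull hPS hPP)
    (image_self hfull centralizerIn_le hCC), hPP, fun c hc => ?_⟩
  apply hC
  have h1 : c⁻¹ * t * c ∈ T :=
    (Subgroup.mem_normalizer_iff.mp (hT.le_normalizer (centralizerIn_le hc : c ∈ S))
      (c⁻¹ * t * c)).mpr (by simpa [mul_assoc] using ht.1)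
  have h2 : c⁻¹ * (t * c * t⁻¹) ∈ T := by
    have := T.mul_mem h1 (T.inv_mem ht.1)
    simpa [mul_assoc] using this
  exact ⟨h2, ((centralizerIn S P).mul_mem ((centralizerIn S P).inv_mem hc) (hCC c hc)).2⟩

/-- `P C_S(P)` is centric. -/
theorem isCentric_ext (hP : F.IsFullyCentralized P) : F.IsCentric (P ⊔ centralizerIn S P) := by
  refine ⟨ext_le hP.1, fun Q hQ => ?_⟩
  obtain ⟨φ, hφ, hr⟩ := hQ
  have hi : F.IsIso (P ⊔ centralizerIn S P) Q (funOf φ) := hr ▸ isIso_funOf hφ
  obtain ⟨P', hP', hP'Q, hP'm⟩ := hi.restrict le_sup_left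
  obtain ⟨C', hC', hC'Q, hC'm⟩ := hi.restrict le_sup_right
  have hle : C' ≤ centralizerIn S P' := fun y hy => by
    obtain ⟨c, hc, rfl⟩ := (hC'm y).mp hy
    exact map_centralizer hi le_sup_left hP'm hc (Subgroup.mem_sup_right hc)
  haveI := finite_centralizerIn (S := S) (P := P')
  have e : C' = centralizerIn S P' :=
    Subgroup.eq_of_le_of_card_ge hle (hC'.card_eq ▸ hP.2 P' hP'.isConj)
  intro y hy
  exact hC'Q (e ▸ ⟨hy.1, Subgroup.centralizer_le hP'Q hy.2⟩)

variable [Fact p.Prime]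

/-- An automorphism of `P C_S(P)` fixing `P` and trivial modulo `P` is inner by an element of `C_S(P)`. -/
theorem inner_of_fix (hS : IsPGroup p S) (hF : F.IsSaturated p) (hP : F.IsFullyCentralized P)
    (h : Lift F P f) (hfix : ∀ x ∈ P, f x = x) :
    ∃ w ∈ centralizerIn S P, ∀ x ∈ P ⊔ centralizerIn S P, f x = w * x * w⁻¹ := by
  haveI := finite_centralizerIn (S := S) (P := P)
  set C := centralizerIn S P with hCdef
  let D := F.centralizerSystem P hP.1
  have hD : D.IsSaturated p := hF.isSaturated_centralizerSystem hS hP (fun _ => rfl)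
  have hC : IsPGroup p C := hS.to_le centralizerIn_le
  haveI := finite_mulAut_of_le (centralizerIn_le : C ≤ S)
  haveI := finite_autGroup (F := D) (le_refl C)
  have hfC : F.IsIso C C f := isIso_self h.iso le_sup_right fun c hc => h.map_cent hc
  obtain ⟨φ, hφ, hφr, hφe⟩ := hfC
  obtain ⟨χ, hχ, -, hχe⟩ := h.iso
  have hle : C ⊔ P ≤ P ⊔ C := le_of_eq (sup_comm _ _)
  have hmem : φ ∈ D.Hom C :=
    ⟨hφ, le_rfl, fun x => hφr.le ⟨x, rfl⟩, _, F.restrict_mem hχ hle,
      fun x => (hχe _).trans (hφe x).symm, fun y => (hχe _).trans (hfix y y.2)⟩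
  let α : MulAut C := D.isoOf hmem hφr
  have hα : α ∈ D.autGroup C := D.isoOf_mem_autGroup hmem hφr
  have hαe : ∀ x : C, ((α x : C) : Ω) = f x := fun x => (coe_isoOf hmem hφr x).trans (hφe x)
  have hZfix : ∀ g : D.autGroup C, ∀ r : C, (r : Ω) ∈ P → (g : MulAut C) r = r := by
    intro g r hr
    obtain ⟨φ', hφ', -, hφ'e⟩ := D.exists_map_of_mem_autGroup le_rfl g.2
    obtain ⟨-, -, -, ψ, hψ, hψe, hψfix⟩ := hφ'
    refine Subtype.ext ?_
    rw [← hφ'e r, ← hψe r]
    exact (congrArg ψ (Subtype.ext rfl)).trans (hψfix ⟨r, hr⟩)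
  let K : Subgroup (D.autGroup C) :=
    { carrier := {k | ∀ r : C, (r : Ω)⁻¹ * ((k : MulAut C) r : C) ∈ P}
      one_mem' := fun r => by simp
      mul_mem' := fun {k l} hk hl r => by
        have h3 := P.mul_mem (hl r) (hk ((l : MulAut C) r))
        simpa [mul_assoc] using h3
      inv_mem' := fun {k} hk r => by
        have h3 := P.inv_mem (hk (((k⁻¹ : D.autGroup C) : MulAut C) r))
        simpa using h3 }
  have hKn : K.Normal := by
    refine ⟨fun k hk g r => ?_⟩
    simp only [Subgroup.coe_mul, MulAut.mul_apply]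
    set s := ((g⁻¹ : D.autGroup C) : MulAut C) r with hs
    have hr : r = (g : MulAut C) s := by rw [hs]; simp
    have e : (r : Ω)⁻¹ * ((g : MulAut C) ((k : MulAut C) s) : C)
        = ((g : MulAut C) (s⁻¹ * (k : MulAut C) s) : C) := by
      conv_lhs => rw [hr]
      simp
    rw [e, hZfix g _ (by simpa using hk s)]
    simpa using hk s
  have hKp : IsPGroup p K := by
    have hZp : IsPGroup p (P.subgroupOf C) :=
      ((hS.to_le (inf_le_left.trans hP.1 : P ⊓ C ≤ S)).of_equiv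
        (Subgroup.subgroupOfEquivOfLe (inf_le_right : P ⊓ C ≤ C)).symm).to_le
        (fun x hx => (⟨hx, x.2⟩ : (x : Ω) ∈ P ⊓ C))
    have := isPGroup_stab (p := p) (K.map (D.autGroup C).subtype) (P.subgroupOf C) hZp
      (by rintro _ ⟨k, -, rfl⟩ z hz; exact hZfix k z hz)
      (by rintro _ ⟨k, hk, rfl⟩ r; simpa [Subgroup.mem_subgroupOf] using hk r)
    exact this.of_equiv (Subgroup.equivMapOfInjective K _ Subtype.val_injective).symm
  obtain ⟨-, U, hU⟩ := hD.isFullyAutomized_of_isFullyNormalized hC isFullyNormalized_self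
  have hαK : (⟨α, hα⟩ : D.autGroup C) ∈ K := fun r => by
    show (r : Ω)⁻¹ * ((α r : C) : Ω) ∈ P
    rw [hαe]; exact h.triv r r.2
  have hαS : α ∈ autInducedBy C C :=
    Subgroup.mem_subgroupOf.mp (hU.le (le_sylow U hKn hKp hαK))
  obtain ⟨w, hw, -, hwe⟩ := mem_autInducedBy_iff.mp hαS
  refine ⟨w, hw, fun x hx => ?_⟩
  obtain ⟨χ', hχ', -, hχ'e⟩ := h.iso
  have hP' : ∀ y ∈ P, f y = w * y * w⁻¹ := fun y hy => by
    rw [hfix y hy, ← Subgroup.mem_centralizer_iff.mp hw.2 y hy, mul_inv_cancel_right]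
  let Eq : Subgroup ↥(P ⊔ C) := MonoidHom.eqLocus χ' ((MulAut.conj w).toMonoidHom.comp (P ⊔ C).subtype)
  have htop : (⊤ : Subgroup ↥(P ⊔ C)) ≤ Eq := by
    rw [← Subgroup.subgroupOf_self (P ⊔ C), Subgroup.subgroupOf_sup le_sup_left le_sup_right]
    refine sup_le (fun z hz => ?_) (fun z hz => ?_)
    · show χ' z = w * z * w⁻¹
      rw [hχ'e]; exact hP' z hz
    · show χ' z = w * z * w⁻¹
      rw [hχ'e, ← hαe ⟨z, hz⟩]
      exact hwe ⟨z, hz⟩
  rw [← hχ'e ⟨x, hx⟩]
  exact htop (Subgroup.mem_top (⟨x, hx⟩ : ↥(P ⊔ C)))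

set_option maxHeartbeats 1000000 in
/-- The two consequences of the action of the lifts on `Z(P)⟨y⟩`: control by the quadratic elements, and
the existence of an element of `y Z(P)` fixed by all lifts. -/
theorem lifts_main (hS : IsPGroup p S) (hE : E.IsNormalIn F p) (hPT : P ≤ T)
    (hPn : F.IsFullyNormalized P) (hPc : E.IsCentric P) {y : Ω} (hy : y ∈ centralizerIn S T) :
    (p ≠ 2 → (∀ φ ∈ E.Hom (quadSub T P), φ ∈ F.centralizerHom (Subgroup.zpowers y) (quadSub T P)) →
      ∀ f, PLift E F p P f → f y = y) ∧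
    ∀ Xs : Subgroup Ω, (∀ g, Lift F P g → E.IsIso P P g → g y ∈ Xs) →
      ∃ d ∈ zen P, y * d ∈ Xs ∧ (∀ f, PLift E F p P f → f (y * d) = y * d) ∧
        ∀ t ∈ normalizerIn T P, t * (y * d) * t⁻¹ = y * d := by
  obtain ⟨hEs, hF, hEi⟩ := id hE.1
  have hT := hEi.2.1
  have hPS := hPT.trans hT.1
  have hfc := hF.isFullyCentralized_of_isFullyNormalized hS hPn
  haveI := finite_of_le hT.1
  have hTp : IsPGroup p T := hS.to_le hT.1
  have hEn : E.IsFullyNormalized P := hPn.of_invariant hEi hS hF hPT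
  have hCT : centralizerIn T P ≤ P := hPc.centralizerIn_le_self
  set W := P ⊔ centralizerIn S P with hWdef
  have hWS : W ≤ S := ext_le hPS
  haveI := finite_of_le hWS
  haveI := finite_mulAut_of_le hWS
  haveI := finite_mulAut_of_le hPS
  haveI := finite_autGroup (F := E) hPT
  have hyP : y ∈ centralizerIn S P := ⟨hy.1, Subgroup.centralizer_le hPT hy.2⟩
  have hyW : y ∈ W := Subgroup.mem_sup_right hyP
  let Gen : Set (MulAut W) := {β | ∃ g, (∀ x : W, ((β x : W) : Ω) = g x) ∧ PLift E F p P g} ∪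
    {β | ∃ t ∈ normalizerIn T P, ∀ x : W, ((β x : W) : Ω) = t * x * t⁻¹}
  let G1 := Subgroup.closure Gen
  have hgood : ∀ β ∈ G1, ∃ g, (∀ x : W, ((β x : W) : Ω) = g x) ∧ Lift F P g ∧ E.IsIso P P g := by
    intro β hβ
    induction hβ using Subgroup.closure_induction with
    | mem β hβ =>
      rcases hβ with ⟨g, hge, hg⟩ | ⟨t, ht, hte⟩
      · exact ⟨g, hge, hg.lift, hg.iso⟩
      · exact ⟨_, hte, lift_conj hT hPT hCT ht, isIso_conj_normalizer hPT ht.1 ht.2⟩
    | one =>
      exact ⟨fun x => x, fun _ => rfl, ⟨IsIso.refl F hWS, fun x hx => hx, fun c _ => by simp⟩,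
        IsIso.refl E hPT⟩
    | mul a b _ _ iha ihb =>
      obtain ⟨g, hge, hg, hgE⟩ := iha
      obtain ⟨g', hge', hg', hgE'⟩ := ihb
      exact ⟨_, fun x => by rw [MulAut.mul_apply, hge, hge'], hg'.comp hg, hgE'.comp hgE⟩
    | inv a _ iha =>
      obtain ⟨g, hge, hg, hgE⟩ := iha
      obtain ⟨g', hg', hl, -⟩ := hg.exists_symm
      refine ⟨g', fun x => ?_, hg', ?_⟩
      · conv_rhs => rw [← MulAut.apply_inv_self W a x, hge]
        exact (hl _ (SetLike.coe_mem _)).symm
      · obtain ⟨g'', hg'', -, hr⟩ := hgE.symm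
        refine hg''.congr fun x hx => ?_
        conv_lhs => rw [← hr x hx]
        exact hl _ (Subgroup.mem_sup_left (hg''.mem hx))
  -- the restriction to `P`
  have hres : ∀ β : G1, ∃ α : E.autGroup P, ∀ x : P,
      (((α : MulAut P) x : P) : Ω) = (((β : MulAut W) ⟨x, Subgroup.mem_sup_left x.2⟩ : W) : Ω) := by
    intro β
    obtain ⟨g, hge, -, hgE⟩ := hgood β β.2
    obtain ⟨α, hα, hαe⟩ := hgE.toAut
    exact ⟨⟨α, hα⟩, fun x => by rw [hαe, hge]⟩
  choose res hres using hres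
  let ρ : G1 →* E.autGroup P := MonoidHom.mk' res fun a b => by
    refine Subtype.ext (MulEquiv.ext fun x => Subtype.ext ?_)
    rw [Subgroup.coe_mul, MulAut.mul_apply, hres, hres, Subgroup.coe_mul, MulAut.mul_apply]
    exact congrArg (fun z : W => (((a : MulAut W) z : W) : Ω)) (Subtype.ext (hres b x).symm)
  obtain ⟨-, U, hU⟩ := hEs.isFullyAutomized_of_isFullyNormalized hTp hEn
  -- conjugations by elements of `N_T(P)`
  have hconj : ∀ t ∈ normalizerIn T P, ∃ β : G1, ∀ x : W, (((β : MulAut W) x : W) : Ω) = t * x * t⁻¹ := by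
    intro t ht
    obtain ⟨β, -, hβ⟩ := (lift_conj (F := F) hT hPT hCT ht).iso.toAut
    exact ⟨⟨β, Subgroup.subset_closure (Or.inr ⟨t, ht, hβ⟩)⟩, hβ⟩
  -- the inner elements
  let R1 : Subgroup G1 :=
    { carrier := {β | ∃ u ∈ S, ∀ x : W, (((β : MulAut W) x : W) : Ω) = u * x * u⁻¹}
      one_mem' := ⟨1, S.one_mem, fun x => by simp⟩
      mul_mem' := by
        rintro a b ⟨u, hu, hue⟩ ⟨v, hv, hve⟩
        exact ⟨u * v, S.mul_mem hu hv, fun x => by
          rw [Subgroup.coe_mul, MulAut.mul_apply, hue, hve]; group⟩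
      inv_mem' := by
        rintro a ⟨u, hu, hue⟩
        refine ⟨u⁻¹, S.inv_mem hu, fun x => ?_⟩
        conv_rhs => rw [← MulAut.apply_inv_self W (a : MulAut W) x, hue]
        rw [Subgroup.coe_inv]
        group }
  have hpow : ∀ {a : G1} {u : Ω}, (∀ x : W, (((a : MulAut W) x : W) : Ω) = u * x * u⁻¹) → ∀ k : ℕ,
      ∀ x : W, ((((a ^ k : G1) : MulAut W) x : W) : Ω) = u ^ k * x * (u ^ k)⁻¹ := by
    intro a u h k
    induction k with
    | zero => intro x; simp
    | succ k ih =>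
      intro x
      rw [pow_succ, Subgroup.coe_mul, MulAut.mul_apply, ih, h, pow_succ]; group
  have hR1p : IsPGroup p R1 := by
    rintro ⟨a, u, hu, hue⟩
    obtain ⟨e, he⟩ := hS ⟨u, hu⟩
    refine ⟨e, Subtype.ext (Subtype.ext (MulEquiv.ext fun x => Subtype.ext ?_))⟩
    rw [SubmonoidClass.coe_pow, hpow hue]
    rw [show u ^ p ^ e = 1 from congrArg Subtype.val he]
    simp
  -- their restrictions are induced by `T`
  have hAutS : ∀ α : E.autGroup P, (α : MulAut P) ∈ autInducedBy S P → α ∈ (U : Subgroup _) := by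
    have hV : IsPGroup p ((autInducedBy S P).subgroupOf (E.autGroup P)) := by
      rintro ⟨α, hα⟩
      obtain ⟨g, hg, -, hge⟩ := mem_autInducedBy_iff.mp (Subgroup.mem_subgroupOf.mp hα)
      obtain ⟨e, he⟩ := hS ⟨g, hg⟩
      refine ⟨e, Subtype.ext (Subtype.ext (MulEquiv.ext fun x => Subtype.ext ?_))⟩
      have hk : ∀ k : ℕ, ((((α : MulAut P) ^ k) x : P) : Ω) = g ^ k * x * (g ^ k)⁻¹ := by
        intro k
        induction k generalizing x with
        | zero => simp
        | succ k ih => rw [pow_succ, MulAut.mul_apply, ih, hge, pow_succ]; group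
      simp only [SubmonoidClass.coe_pow]
      rw [hk, show g ^ p ^ e = 1 from congrArg Subtype.val he]
      simp
    have hUV : (U : Subgroup _) ≤ (autInducedBy S P).subgroupOf (E.autGroup P) := fun a ha =>
      Subgroup.mem_subgroupOf.mpr (autInducedBy_mono hT.1 (Subgroup.mem_subgroupOf.mp (hU.le ha)))
    intro α hα
    exact (U.3 hV hUV).le (Subgroup.mem_subgroupOf.mpr hα)
  have hdec : ∀ β : G1, ∀ u ∈ S, (∀ x : W, (((β : MulAut W) x : W) : Ω) = u * x * u⁻¹) →
      ∃ w ∈ centralizerIn S P, ∃ t ∈ normalizerIn T P, u = w * t := by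
    intro β u hu hue
    obtain ⟨g, hge, hg, -⟩ := hgood β β.2
    haveI := finite_of_le hPS
    have hun : u ∈ Subgroup.normalizer (P : Set Ω) := Subgroup.mem_normalizer_fintype fun z hz => by
      have h1 := (hge ⟨z, Subgroup.mem_sup_left hz⟩).symm.trans (hue _)
      have h2 := hg.pres z hz
      rwa [h1] at h2
    have h1 : (ρ β : MulAut P) ∈ autInducedBy S P := mem_autInducedBy_iff.mpr
      ⟨u, hu, hun, fun x => (hres β x).trans (hue _)⟩
    obtain ⟨t, ht, htn, hte⟩ := mem_autInducedBy_iff.mp (Subgroup.mem_subgroupOf.mp (hU.le (hAutS _ h1)))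
    refine ⟨u * t⁻¹, ⟨S.mul_mem hu (S.inv_mem (hT.1 ht)), Subgroup.mem_centralizer_iff.mpr fun z hz => ?_⟩,
      t, ⟨ht, htn⟩, (inv_mul_cancel_right _ _).symm⟩
    have hz' : t⁻¹ * z * t ∈ P := (Subgroup.mem_normalizer_iff''.mp htn z).mp hz
    have h2 := ((hte ⟨_, hz'⟩).symm.trans ((hres β ⟨_, hz'⟩).trans (hue _)))
    calc z * (u * t⁻¹) = t * (t⁻¹ * z * t) * t⁻¹ * (u * t⁻¹) := by group
      _ = u * (t⁻¹ * z * t) * u⁻¹ * (u * t⁻¹) := by rw [h2]
      _ = u * t⁻¹ * z := by group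
  have hR1U : ∀ β ∈ R1, ρ β ∈ (U : Subgroup _) := by
    rintro β ⟨u, hu, hue⟩
    obtain ⟨w, hw, t, ht, rfl⟩ := hdec β u hu hue
    refine hU.ge (Subgroup.mem_subgroupOf.mpr (mem_autInducedBy_iff.mpr ⟨t, ht.1, ht.2, fun x => ?_⟩))
    refine (hres β x).trans ((hue _).trans ?_)
    have h1 := Subgroup.mem_centralizer_iff.mp hw.2 _ ((Subgroup.mem_normalizer_iff.mp ht.2 _).mp x.2)
    calc w * t * (x : Ω) * (w * t)⁻¹ = w * (t * x * t⁻¹) * w⁻¹ := by group
      _ = t * x * t⁻¹ := by rw [← h1, mul_inv_cancel_right]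
  -- a Sylow subgroup
  obtain ⟨V, hV⟩ := hR1p.exists_le_sylow
  have hVR : (V : Subgroup G1) = R1 := by
    refine le_antisymm (fun v hv => ?_) hV
    have himg : (V : Subgroup G1).map ρ = (U : Subgroup _) := by
      refine U.3 (V.2.map ρ) fun a ha => ?_
      obtain ⟨t, ht, htn, hte⟩ := mem_autInducedBy_iff.mp (Subgroup.mem_subgroupOf.mp (hU.le ha))
      obtain ⟨β, hβ⟩ := hconj t ⟨ht, htn⟩
      refine ⟨β, hV ⟨t, hT.1 ht, hβ⟩, Subtype.ext (MulEquiv.ext fun x => Subtype.ext ?_)⟩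
      exact (hres β x).trans ((hβ _).trans (hte x).symm)
    have h1 : ρ v ∈ (U : Subgroup _) := himg ▸ ⟨v, hv, rfl⟩
    obtain ⟨t, ht, htn, hte⟩ := mem_autInducedBy_iff.mp (Subgroup.mem_subgroupOf.mp (hU.le h1))
    obtain ⟨β, hβ⟩ := hconj t ⟨ht, htn⟩
    have hker : ρ (β⁻¹ * v) = 1 := by
      have e : ρ β = ρ v := Subtype.ext (MulEquiv.ext fun x =>
        Subtype.ext ((hres β x).trans ((hβ _).trans (hte x).symm)))
      rw [map_mul, map_inv, e, inv_mul_cancel]
    obtain ⟨g, hge, hg, -⟩ := hgood _ (β⁻¹ * v).2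
    have hgfix : ∀ x ∈ P, g x = x := fun x hx => by
      rw [← hge ⟨x, Subgroup.mem_sup_left hx⟩, ← hres (β⁻¹ * v) ⟨x, hx⟩]
      show ((((ρ (β⁻¹ * v)) : E.autGroup P) : MulAut P) ⟨x, hx⟩ : Ω) = x
      rw [hker]; rfl
    obtain ⟨w, hw, hwe⟩ := inner_of_fix hS hF hfc hg hgfix
    have hmem : β⁻¹ * v ∈ R1 := ⟨w, hw.1, fun x => (hge x).trans (hwe x x.2)⟩
    have := R1.mul_mem (⟨t, hT.1 ht, hβ⟩ : β ∈ R1) hmem
    rwa [mul_inv_cancel_left] at this
  -- the module
  set M := zen P ⊔ Subgroup.zpowers y with hMdef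
  have hzc : zen P ≤ centralizerIn S P := fun d hd => ⟨hPS hd.1, hd.2⟩
  have hMW : M ≤ W := sup_le (hzc.trans le_sup_right) (Subgroup.zpowers_le.mpr hyW)
  have hcommM : ∀ a ∈ M, ∀ b ∈ M, a * b = b * a := by
    have hgen : M = Subgroup.closure ((zen P : Set Ω) ∪ {y}) := by
      rw [Subgroup.closure_union, Subgroup.closure_eq, ← Subgroup.zpowers_eq_closure]
    rw [hgen]
    haveI := Subgroup.isMulCommutative_closure (k := (zen P : Set Ω) ∪ {y}) (by
      rintro a (ha | ha) b (hb | hb)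
      · exact Subgroup.mem_centralizer_iff.mp hb.2 a ha.1
      · rw [Set.mem_singleton_iff.mp hb]; exact Subgroup.mem_centralizer_iff.mp hyP.2 a ha.1
      · rw [Set.mem_singleton_iff.mp ha]; exact (Subgroup.mem_centralizer_iff.mp hyP.2 b hb.1).symm
      · rw [Set.mem_singleton_iff.mp ha, Set.mem_singleton_iff.mp hb])
    exact fun a ha b hb => Subgroup.mul_comm_of_mem_isMulCommutative _ ha hb
  letI : CommGroup M :=
    { (inferInstance : Group M) with mul_comm := fun a b => Subtype.ext (hcommM a a.2 b b.2) }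
  haveI := finite_of_le (hMW.trans hWS)
  have hMp : IsPGroup p M := hS.to_le (hMW.trans hWS)
  have hdy : ∀ g : Ω → Ω, Lift F P g → y⁻¹ * g y ∈ zen P := fun g hg => by
    obtain ⟨h1, h2⟩ := hg.triv' hyP
    exact ⟨h1, h2.2⟩
  have hinvM : ∀ (β : G1) (m : Ω) (hm : m ∈ M), (((β : MulAut W) ⟨m, hMW hm⟩ : W) : Ω) ∈ M := by
    intro β
    obtain ⟨g, hge, hg, -⟩ := hgood β β.2
    suffices h : ∀ m ∈ M, g m ∈ M from fun m hm => by rw [hge]; exact h m hm
    have hgy : g y ∈ M := by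
      have := M.mul_mem (Subgroup.mem_sup_right (Subgroup.mem_zpowers y)) (Subgroup.mem_sup_left (hdy g hg))
      rwa [mul_inv_cancel_left] at this
    have hgd : ∀ d ∈ zen P, g d ∈ M := fun d hd =>
      Subgroup.mem_sup_left ⟨hg.pres d hd.1, (hg.map_cent (hzc hd)).2⟩
    intro m hm
    have hgen : M = Subgroup.closure ((zen P : Set Ω) ∪ {y}) := by
      rw [Subgroup.closure_union, Subgroup.closure_eq, ← Subgroup.zpowers_eq_closure]
    have hle : Subgroup.closure ((zen P : Set Ω) ∪ {y}) ≤ W := hgen ▸ hMW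
    have hm' := hgen ▸ hm
    clear hm
    induction hm' using Subgroup.closure_induction with
    | mem x hx => exact hx.elim (hgd x) fun h => Set.mem_singleton_iff.mp h ▸ hgy
    | one => rw [hg.iso.apply_one]; exact M.one_mem
    | mul a b ha hb iha ihb => rw [hg.iso.apply_mul (hle ha) (hle hb)]; exact M.mul_mem iha ihb
    | inv a ha iha => rw [hg.iso.apply_inv (hle ha)]; exact M.inv_mem iha
  letI : MulDistribMulAction G1 M :=
    { smul := fun β m => ⟨(((β : MulAut W) ⟨m, hMW m.2⟩ : W) : Ω), hinvM β m m.2⟩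
      one_smul := fun m => Subtype.ext rfl
      mul_smul := fun a b m => Subtype.ext rfl
      smul_mul := fun a m n => Subtype.ext (congrArg (Subtype.val : W → Ω)
        (map_mul (a : MulAut W) ⟨m, hMW m.2⟩ ⟨n, hMW n.2⟩))
      smul_one := fun a => Subtype.ext (congrArg (Subtype.val : W → Ω) (map_one (a : MulAut W))) }
  have hsmul : ∀ (β : G1) (m : M), ((β • m : M) : Ω) = (((β : MulAut W) ⟨m, hMW m.2⟩ : W) : Ω) :=
    fun _ _ => rfl
  let Y : M := ⟨y, Subgroup.mem_sup_right (Subgroup.mem_zpowers y)⟩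
  have hty : ∀ t ∈ T, t * y * t⁻¹ = y := fun t ht => by
    rw [Subgroup.mem_centralizer_iff.mp hy.2 t ht, mul_inv_cancel_right]
  -- the value at `y` of an inner element
  have hval : ∀ β : G1, ∀ w ∈ centralizerIn S P, ∀ t ∈ normalizerIn T P,
      (∀ x : W, (((β : MulAut W) x : W) : Ω) = w * t * x * (w * t)⁻¹) →
      ((β • Y / Y : M) : Ω) = w * y * w⁻¹ * y⁻¹ ∧ w * y * w⁻¹ * y⁻¹ ∈ zen P := by
    intro β w hw t ht hue
    have e : ((β • Y : M) : Ω) = w * y * w⁻¹ := by
      rw [hsmul, hue]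
      show w * t * y * (w * t)⁻¹ = _
      rw [mul_inv_rev, show w * t * y * (t⁻¹ * w⁻¹) = w * (t * y * t⁻¹) * w⁻¹ by group, hty t ht.1]
    refine ⟨by rw [div_eq_mul_inv, Subgroup.coe_mul, Subgroup.coe_inv, e], ?_⟩
    obtain ⟨g, hge, hg, -⟩ := hgood β β.2
    have h1 := hdy g hg
    have h2 : g y = w * y * w⁻¹ := by rw [← hge ⟨y, hyW⟩, ← e]; rfl
    have h3 : w * y * w⁻¹ * y⁻¹ = y * (y⁻¹ * g y) * y⁻¹ := by rw [h2]; group
    rw [h3, ← (show Commute (y⁻¹ * g y) y from Subgroup.mem_centralizer_iff.mp hyP.2 _ h1.1).eq,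
      mul_inv_cancel_right]
    exact h1
  have hz : ∀ w ∈ centralizerIn S P, ∀ t ∈ normalizerIn T P,
      ∃ z ∈ P, t * w * t⁻¹ = w * z := by
    intro w hw t ht
    exact ⟨w⁻¹ * (t * w * t⁻¹), (lift_conj (F := F) hT hPT hCT ht).triv w hw, (mul_inv_cancel_left _ _).symm⟩
  have hcommy : ∀ z ∈ P, ∀ w : Ω, w * z * y * (w * z)⁻¹ = w * y * w⁻¹ := fun z hz w => by
    rw [mul_assoc w z y, Subgroup.mem_centralizer_iff.mp hyP.2 z hz]
    group
  let δ : R1 →* M := MonoidHom.mk' (fun r => (r : G1) • Y / Y) fun a b => by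
    obtain ⟨u, hu, hue⟩ := a.2
    obtain ⟨v, hv, hve⟩ := b.2
    obtain ⟨w, hw, t, ht, rfl⟩ := hdec a u hu hue
    obtain ⟨w', hw', t', ht', rfl⟩ := hdec b v hv hve
    obtain ⟨hb1, hb2⟩ := hval b w' hw' t' ht' hve
    have hfix : (a : G1) • ((b : G1) • Y / Y) = (b : G1) • Y / Y := by
      refine Subtype.ext ?_
      rw [hsmul, hue]
      show w * t * (((b : G1) • Y / Y : M) : Ω) * (w * t)⁻¹ = _
      rw [hb1]
      obtain ⟨z, hz, hze⟩ := hz w' hw' t ht
      have e1 : t * (w' * y * w'⁻¹ * y⁻¹) * t⁻¹ = w' * y * w'⁻¹ * y⁻¹ := by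
        calc t * (w' * y * w'⁻¹ * y⁻¹) * t⁻¹
            = (t * w' * t⁻¹) * (t * y * t⁻¹) * (t * w' * t⁻¹)⁻¹ * (t * y * t⁻¹)⁻¹ := by group
          _ = _ := by rw [hty t ht.1, hze, hcommy z hz]
      calc w * t * (w' * y * w'⁻¹ * y⁻¹) * (w * t)⁻¹ = w * (t * (w' * y * w'⁻¹ * y⁻¹) * t⁻¹) * w⁻¹ := by group
        _ = _ := by
          rw [e1, ← Subgroup.mem_centralizer_iff.mp hw.2 _ hb2.1, mul_inv_cancel_right]
    show ((a * b : R1) : G1) • Y / Y = _
    rw [Subgroup.coe_mul, mul_smul]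
    calc (a : G1) • ((b : G1) • Y) / Y = ((a : G1) • Y / Y) * ((a : G1) • ((b : G1) • Y / Y)) := by
          rw [smul_div', mul_comm, div_mul_div_cancel]
      _ = _ := by rw [hfix]
  -- fusion invariance
  have hW' : F.IsCentric W := isCentric_ext hfc
  have hrec := hF.isReceptive_of_isFullyCentralized hS hW'.isFullyCentralized
  have hfus : ∀ (g : G1) (r r' : R1), g * (r : G1) * g⁻¹ = r' → δ r' = δ r := by
    intro γ r r' he
    obtain ⟨u, hu, hue⟩ := r.2
    obtain ⟨u', hu', hue'⟩ := r'.2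
    obtain ⟨w, hw, t, ht, rfl⟩ := hdec r u hu hue
    obtain ⟨g, hge, hg, -⟩ := hgood γ γ.2
    have hwW : w ∈ W := Subgroup.mem_sup_right hw
    have hgw : g w ∈ centralizerIn S P := hg.map_cent hw
    have hkey : ∀ x : W, (((γ : MulAut W) x : W) : Ω) = g x := hge
    -- the conjugate of `t` is induced by an element of `S`
    have hts : ∀ x : W, ∀ hx : t * (x : Ω) * t⁻¹ ∈ W,
        g (t * x * t⁻¹) = ((g w)⁻¹ * u') * g x * ((g w)⁻¹ * u')⁻¹ := by
      intro x hx
      have h1 : (((r' : G1) : MulAut W) ((γ : MulAut W) x) : W) = (γ : MulAut W) (((r : G1) : MulAut W) x) := by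
        rw [← he]
        simp
      have h2 := congrArg Subtype.val h1
      rw [hue', hkey, hkey, hue] at h2
      have h3 : g (w * t * (x : Ω) * (w * t)⁻¹) = g w * g (t * x * t⁻¹) * (g w)⁻¹ := by
        rw [← hg.iso.apply_conj hwW hx]
        congr 1
        group
      rw [h3] at h2
      calc g (t * (x : Ω) * t⁻¹) = (g w)⁻¹ * (g w * g (t * x * t⁻¹) * (g w)⁻¹) * g w := by group
        _ = _ := by rw [← h2]; group
    obtain ⟨φ, hφ, hφr, hφe⟩ := hg.iso
    have htn : t ∈ Subgroup.normalizer (W : Set Ω) := by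
      refine Subgroup.mem_normalizer_fintype fun z hz => ?_
      exact (lift_conj (F := F) hT hPT hCT ht).iso.mem hz
    obtain ⟨ψ, hψ, hψe⟩ := hrec.2 W φ hφ hφr
    have htex : t ∈ extender S W φ := by
      refine (mem_extender_iff (F.apply_mem hφ)).mpr ⟨hT.1 ht.1, htn, (g w)⁻¹ * u',
        S.mul_mem (S.inv_mem hgw.1) hu', fun x hx => ?_⟩
      rw [hφe, hφe]
      exact hts x hx
    have hWex : W ≤ extender S W φ := le_extender hWS (F.apply_mem hφ)
    have hi := isIso_funOf hψ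
    have hs : funOf ψ t ∈ T := hT.iso_mem hi htex ht.1
    have hψW : ∀ x ∈ W, funOf ψ x = g x := fun x hx => by
      rw [← funOf_apply ψ ⟨x, hWex hx⟩, hψe x hx (hWex hx)]
      exact hφe ⟨x, hx⟩
    -- compute
    obtain ⟨z, hzP, hze⟩ : ∃ z ∈ P, g w = w * z := ⟨w⁻¹ * g w, hg.triv w hw, (mul_inv_cancel_left _ _).symm⟩
    have hgWy : g y ∈ W := hg.iso.mem hyW
    refine Subtype.ext ?_
    show (((r' : G1) • Y / Y : M) : Ω) = (((r : G1) • Y / Y : M) : Ω)
    rw [(hval r w hw t ht hue).1, div_eq_mul_inv, Subgroup.coe_mul, Subgroup.coe_inv, hsmul]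
    congr 1
    obtain ⟨g', hg', -, hr⟩ := hg.exists_symm
    have hy' : g' y ∈ W := hg'.iso.mem hyW
    have h1 : (((r' : G1) : MulAut W) ((γ : MulAut W) ⟨g' y, hy'⟩) : W) =
        (γ : MulAut W) (((r : G1) : MulAut W) ⟨g' y, hy'⟩) := by
      rw [← he]
      simp
    have h2 := congrArg Subtype.val h1
    have e0 : (γ : MulAut W) ⟨g' y, hy'⟩ = ⟨y, hyW⟩ := Subtype.ext (by rw [hkey]; exact hr y hyW)
    rw [e0, hkey, hue] at h2
    refine h2.trans ?_
    show g (w * t * g' y * (w * t)⁻¹) = _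
    have hty' : t * g' y * t⁻¹ ∈ W := (Subgroup.mem_normalizer_iff.mp htn _).mp hy'
    rw [show w * t * g' y * (w * t)⁻¹ = w * (t * g' y * t⁻¹) * w⁻¹ by group, hg.iso.apply_conj hwW hty',
      ← hψW _ hty', hi.apply_conj htex (hWex hy'), hψW _ hy', hr y hyW, hty _ hs, hze, hcommy z hzP]
  -- transfer
  haveI : R1.FiniteIndex := inferInstance
  have hidx : ¬ p ∣ R1.index := hVR ▸ V.not_dvd_index
  let τ : G1 →* M := δ.transfer
  have hτR : ∀ r : R1, τ r = δ r ^ R1.index := by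
    intro r
    classical
    haveI := R1.fintypeQuotientOfFiniteIndex
    show δ.transfer (r : G1) = _
    rw [MonoidHom.transfer_eq_prod_quotient_orbitRel_zpowers_quot]
    rw [Subgroup.index_eq_sum_minimalPeriod R1 (r : G1), ← Finset.prod_pow_eq_pow_sum]
    refine Finset.prod_congr rfl fun q _ => ?_
    rw [← map_pow]
    exact hfus q.out.out⁻¹ (r ^ _) _ (by simp)
  have hτ : ∀ g : G1, τ g = 1 := by
    intro g
    obtain ⟨β, hβ⟩ := g
    induction hβ using Subgroup.closure_induction with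
    | mem β hβ =>
      rcases hβ with ⟨g, hge, hg⟩ | ⟨t, ht, hte⟩
      · obtain ⟨m, hm, hper⟩ := hg.per
        have hmem : β ∈ G1 := Subgroup.subset_closure (Or.inl ⟨g, hge, hg⟩)
        have h1 : (⟨β, hmem⟩ : G1) ^ m = 1 := by
          refine Subtype.ext (MulEquiv.ext fun x => Subtype.ext ?_)
          rw [SubmonoidClass.coe_pow]
          exact (coe_pow_apply hge m x).trans (hper x x.2)
        have h2 := congrArg τ h1
        rw [map_pow, map_one] at h2
        obtain ⟨e, he⟩ := hMp (τ ⟨β, hmem⟩)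
        exact eq_one_of_coprime_pow h2 he
          (Nat.Coprime.pow_right e ((Nat.Prime.coprime_iff_not_dvd Fact.out).mpr hm).symm)
      · have hmem : β ∈ G1 := Subgroup.subset_closure (Or.inr ⟨t, ht, hte⟩)
        have hR : (⟨β, hmem⟩ : G1) ∈ R1 := ⟨t, hT.1 ht.1, hte⟩
        show τ ((⟨⟨β, hmem⟩, hR⟩ : R1) : G1) = 1
        rw [hτR]
        have : δ ⟨⟨β, hmem⟩, hR⟩ = 1 := Subtype.ext (by
          show (((⟨β, hmem⟩ : G1) • Y / Y : M) : Ω) = 1
          rw [(hval _ 1 (centralizerIn S P).one_mem t ht (fun x => by rw [one_mul]; exact hte x)).1]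
          group)
        rw [this, one_pow]
    | one => exact map_one τ
    | mul a b ha hb iha ihb =>
      rw [show (⟨a * b, G1.mul_mem ha hb⟩ : G1) = ⟨a, ha⟩ * ⟨b, hb⟩ from rfl, map_mul, iha, ihb, one_mul]
    | inv a ha iha =>
      rw [show (⟨a⁻¹, G1.inv_mem ha⟩ : G1) = ⟨a, ha⟩⁻¹ from rfl, map_inv, iha, inv_one]
  have hRfix : ∀ r ∈ R1, r • Y = Y := by
    intro r hr
    have h1 := (hτR ⟨r, hr⟩).symm.trans (hτ r)
    obtain ⟨e, he⟩ := hMp (δ ⟨r, hr⟩)
    exact div_eq_one.mp (eq_one_of_coprime_pow h1 he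
      (Nat.Coprime.pow_right e ((Nat.Prime.coprime_iff_not_dvd Fact.out).mpr hidx).symm))
  refine ⟨fun hp2 hW f hf => ?_, fun Xs hXs => ?_⟩
  swap
  · -- averaging over the cosets of the Sylow subgroup
    classical
    haveI := Fintype.ofFinite (G1 ⧸ R1)
    let val : G1 ⧸ R1 → M := fun q => Quotient.liftOn' q (fun h => h • Y) (fun a b hab => by
      rw [QuotientGroup.leftRel_apply] at hab
      have h1 := hRfix _ hab
      rw [mul_smul] at h1
      conv_rhs => rw [← smul_inv_smul a (b • Y), h1])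
    have hval' : ∀ g : G1, ∀ q, g • val q = val (g • q) := by
      intro g q
      induction q using QuotientGroup.induction_on with
      | H h => exact (mul_smul g h Y).symm
    obtain ⟨l, hl⟩ : ∃ l : ℕ, ∀ v : M, v ^ (R1.index * l) = v := by
      obtain ⟨e, he⟩ := IsPGroup.iff_card.mp hMp
      rcases eq_or_ne (p ^ e) 1 with h1 | h1
      · refine ⟨1, fun v => ?_⟩
        have := pow_card_eq_one' (x := v)
        rw [he, h1, pow_one] at this
        rw [this, one_pow]
      obtain ⟨l, -, hl⟩ := Nat.exists_mul_mod_eq_one_of_coprime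
        (Nat.Coprime.pow_right e ((Nat.Prime.coprime_iff_not_dvd Fact.out).mpr hidx).symm)
        (by have := pow_pos (Fact.out : p.Prime).pos e; omega)
      refine ⟨l, fun v => ?_⟩
      have := pow_card_eq_one' (x := v)
      rw [he] at this
      rw [← Nat.mod_add_div (R1.index * l) (p ^ e), hl, pow_add, pow_mul, this, one_pow, mul_one, pow_one]
    let Y' : M := (∏ q, val q) ^ l
    have hY' : ∀ g : G1, g • Y' = Y' := by
      intro g
      rw [smul_pow', smul_prod_eq]
      congr 1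
      exact Fintype.prod_equiv (MulAction.toPerm g) _ _ fun q => hval' g q
    have hdiff : ∀ q, ((val q / Y : M) : Ω) ∈ zen P := by
      intro q
      induction q using QuotientGroup.induction_on with
      | H h =>
        show ((h • Y / Y : M) : Ω) ∈ zen P
        obtain ⟨g, hge, hg, -⟩ := hgood _ h.2
        rw [div_eq_mul_inv, mul_comm, Subgroup.coe_mul, Subgroup.coe_inv, hsmul, hge]
        exact hdy g hg
    have hd : ((Y' / Y : M) : Ω) ∈ zen P := by
      have e : Y' / Y = (∏ q, val q / Y) ^ l := by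
        rw [Finset.prod_div_distrib, Finset.prod_const, Finset.card_univ, ← Nat.card_eq_fintype_card,
          ← Subgroup.index_eq_card, div_pow, ← pow_mul, hl Y]
      rw [e]
      refine (Subgroup.mem_subgroupOf (H := zen P) (K := M)).mp (Subgroup.pow_mem _ ?_ l)
      exact Subgroup.prod_mem _ fun q _ => Subgroup.mem_subgroupOf.mpr (hdiff q)
    have heq : y * ((Y' / Y : M) : Ω) = (Y' : Ω) := by
      show ((Y * (Y' / Y) : M) : Ω) = _
      rw [mul_div_cancel]
    refine ⟨_, hd, ?_, fun f hf => ?_, fun t ht => ?_⟩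
    · rw [heq]
      refine (Subgroup.mem_subgroupOf (H := Xs) (K := M)).mp (Subgroup.pow_mem _ ?_ l)
      refine Subgroup.prod_mem _ fun q _ => Subgroup.mem_subgroupOf.mpr ?_
      induction q using QuotientGroup.induction_on with
      | H h =>
        obtain ⟨g, hge, hg, hgE⟩ := hgood _ h.2
        show ((h • Y : M) : Ω) ∈ Xs
        rw [hsmul, hge]
        exact hXs g hg hgE
    · obtain ⟨β, -, hβ⟩ := hf.lift.iso.toAut
      have h1 := congrArg Subtype.val (hY' ⟨β, Subgroup.subset_closure (Or.inl ⟨f, hβ, hf⟩)⟩)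
      rw [hsmul, hβ] at h1
      rw [heq]; exact h1
    · obtain ⟨β, hβ⟩ := hconj t ht
      have h1 := congrArg Subtype.val (hY' β)
      rw [hsmul, hβ] at h1
      rw [heq]; exact h1
  -- the weakly closed subgroup
  set Wh : Subgroup G1 := Subgroup.closure {r : G1 | r ∈ (V : Subgroup G1) ∧ Quad M r} with hWh
  have hWhR : Wh ≤ R1 := (Subgroup.closure_le _).mpr fun r hr => hVR.le hr.1
  have hquad : ∀ t ∈ quadSub T P, ∀ β : G1,
      (∀ x : W, (((β : MulAut W) x : W) : Ω) = t * x * t⁻¹) → β ∈ Wh := by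
    intro t ht
    induction ht using Subgroup.closure_induction with
    | mem t ht =>
      intro β hβ
      refine Subgroup.subset_closure ⟨hVR.ge ⟨t, hT.1 ht.1.1, hβ⟩, ?_⟩
      let Qs : Subgroup M :=
        { carrier := {v | β • (β • v / v) = β • v / v}
          one_mem' := by simp
          mul_mem' := fun {a b} ha hb => by
            show β • (β • (a * b) / (a * b)) = β • (a * b) / (a * b)
            rw [smul_mul', mul_div_mul_comm, smul_mul', ha, hb]
          inv_mem' := fun {a} ha => by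
            show β • (β • a⁻¹ / a⁻¹) = β • a⁻¹ / a⁻¹
            rw [smul_inv', ← inv_div', smul_inv', ha] }
      have hQ : ∀ v : M, v ∈ Qs := by
        have hle : M ≤ Qs.map M.subtype := by
          refine sup_le (fun d hd => ⟨⟨d, Subgroup.mem_sup_left hd⟩, ?_, rfl⟩)
            (Subgroup.zpowers_le.mpr ⟨Y, ?_, rfl⟩)
          · refine Subtype.ext ?_
            simp only [div_eq_mul_inv, Subgroup.coe_mul, Subgroup.coe_inv, hsmul, hβ]
            exact ht.2 d hd
          · show β • (β • Y / Y) = β • Y / Y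
            rw [hRfix β ⟨t, hT.1 ht.1.1, hβ⟩, div_self', smul_one]
        intro v
        obtain ⟨z, hz, he⟩ := hle v.2
        exact Subtype.ext he ▸ hz
      exact hQ
    | one =>
      intro β hβ
      have : β = 1 := Subtype.ext (MulEquiv.ext fun x => Subtype.ext ((hβ x).trans (by simp)))
      exact this ▸ Wh.one_mem
    | mul a b ha hb iha ihb =>
      intro β hβ
      obtain ⟨βa, hβa⟩ := hconj a (quadSub_le ha)
      obtain ⟨βb, hβb⟩ := hconj b (quadSub_le hb)
      have : β = βa * βb := Subtype.ext (MulEquiv.ext fun x => Subtype.ext (by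
        rw [Subgroup.coe_mul, MulAut.mul_apply, hβ, hβa, hβb]; group))
      exact this ▸ Wh.mul_mem (iha βa hβa) (ihb βb hβb)
    | inv a ha iha =>
      intro β hβ
      have : ∀ x : W, (((β⁻¹ : G1) : MulAut W) x : Ω) = a * x * a⁻¹ := fun x => by
        conv_rhs => rw [← MulAut.apply_inv_self W (β : MulAut W) x, hβ]
        rw [Subgroup.coe_inv]
        group
      simpa using Wh.inv_mem (iha β⁻¹ this)
  -- elements of the normalizer
  set N := Subgroup.normalizer (Wh : Set G1) with hN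
  have hR1N : R1 ≤ N := by
    intro s hs
    refine Subgroup.mem_normalizer_fintype fun z hz => ?_
    have hz' : z ∈ Wh := hz
    show s * z * s⁻¹ ∈ Wh
    rw [hWh] at hz'
    induction hz' using Subgroup.closure_induction with
    | mem r hr =>
      exact Subgroup.subset_closure
        ⟨hVR.ge (R1.mul_mem (R1.mul_mem hs (hVR.le hr.1)) (R1.inv_mem hs)), hr.2.conj s⟩
    | one => simp
    | mul u v hu' hv' hu hv =>
      simpa [mul_assoc] using Subgroup.mul_mem _ (hu hu') (hv hv')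
    | inv u hu' hu => simpa [mul_assoc] using Subgroup.inv_mem _ (hu hu')
  have hNfix : ∀ n ∈ N, n • Y = Y := by
    let Fx : Subgroup N :=
      { carrier := {n | (n : G1) • Y = Y}
        one_mem' := one_smul _ _
        mul_mem' := fun {a b} ha hb => by
          show ((a * b : N) : G1) • Y = Y
          rw [Subgroup.coe_mul, mul_smul, hb, ha]
        inv_mem' := fun {a} ha => by
          show ((a⁻¹ : N) : G1) • Y = Y
          rw [Subgroup.coe_inv, inv_smul_eq_iff, ha] }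
    suffices h : Fx = ⊤ from fun n hn => (h ▸ Subgroup.mem_top (⟨n, hn⟩ : N) : (⟨n, hn⟩ : N) ∈ Fx)
    refine eq_top_of_sylow_of_pprime Fx (V.subtype (hVR.le.trans hR1N)) ?_ fun n hn => ?_
    · rw [Sylow.coe_subtype]
      exact fun n hn => hRfix _ (hVR.le hn)
    obtain ⟨g, hge, hg, hgE⟩ := hgood _ (n : G1).2
    have hper : ∀ x ∈ W, g^[orderOf n] x = x := fun x hx => by
      rw [← coe_pow_apply hge (orderOf n) ⟨x, hx⟩, ← SubmonoidClass.coe_pow, ← SubmonoidClass.coe_pow,
        pow_orderOf_eq_one]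
      rfl
    obtain ⟨ψ, hψ, hψe⟩ := exists_extension_of_normalizes (γ := (ρ n : MulAut P))
      (M := quadSub T P) (hEs.isReceptive_of_isFullyNormalized hTp hEn) (ρ n).2 quadSub_le (by
      intro t ht htn
      obtain ⟨β, hβ⟩ := hconj t (quadSub_le ht)
      have h1 : (n : G1) * β * (n : G1)⁻¹ ∈ Wh := (Subgroup.mem_normalizer_iff.mp n.2 β).mp (hquad t ht β hβ)
      have h2 := Subgroup.mem_subgroupOf.mp (hU.le (hR1U _ (hWhR h1)))
      have e : (ρ β : MulAut P) = P.normalizerMonoidHom ⟨t, htn⟩ :=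
        MulEquiv.ext fun x => Subtype.ext ((hres β x).trans (hβ _))
      rw [map_mul, map_mul, map_inv, Subgroup.coe_mul, Subgroup.coe_mul, Subgroup.coe_inv, e] at h2
      exact h2)
    have hPq : P ⊔ quadSub T P = quadSub T P := sup_eq_right.mpr (le_quadSub hPT)
    have hψ' := hW _ (E.restrict_mem hψ (hPq.ge))
    obtain ⟨-, -, -, χ, hχ, hχe, hχfix⟩ := hψ'
    have hi := isIso_funOf hχ
    refine Subtype.ext ?_
    show (((n : G1) : MulAut W) ⟨y, hyW⟩ : Ω) = y
    rw [hge]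
    refine fixed_of_weak hS hF hfc hg hn hper hi ((le_quadSub hPT).trans le_sup_left) (fun x hx => ?_)
      (Subgroup.mem_sup_right (Subgroup.mem_zpowers y)) hyP ?_
    · rw [← funOf_apply χ ⟨x, Subgroup.mem_sup_left (le_quadSub hPT hx)⟩]
      refine (hχe ⟨x, le_quadSub hPT hx⟩).trans ((hψe ⟨x, hx⟩).trans ?_)
      exact (hres n ⟨x, hx⟩).trans (hge _)
    · exact (funOf_apply χ (Subgroup.inclusion le_sup_right ⟨y, Subgroup.mem_zpowers y⟩)).symm.trans
        (hχfix ⟨y, Subgroup.mem_zpowers y⟩)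
  -- conclude
  obtain ⟨β, -, hβ⟩ := hf.lift.iso.toAut
  have hmem : β ∈ G1 := Subgroup.subset_closure (Or.inl ⟨f, hβ, hf⟩)
  have := fixed_of_normalizer hp2 hMp V hWh hNfix (⟨β, hmem⟩ : G1)
  have h2 := congrArg Subtype.val this
  rw [hsmul] at h2
  exact (hβ ⟨y, hyW⟩).symm.trans h2

theorem fixed_of_quad (hp2 : p ≠ 2) (hS : IsPGroup p S) (hE : E.IsNormalIn F p) (hPT : P ≤ T)
    (hPn : F.IsFullyNormalized P) (hPc : E.IsCentric P) {y : Ω} (hy : y ∈ centralizerIn S T)
    (hW : ∀ φ ∈ E.Hom (quadSub T P), φ ∈ F.centralizerHom (Subgroup.zpowers y) (quadSub T P))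
    (hf : PLift E F p P f) : f y = y :=
  (lifts_main hS hE hPT hPn hPc hy).1 hp2 hW f hf

end Cfsg.FusionSystem.SubCent.Odd
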