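import Cfsg.Agent.Lib.Fusion.SubCent.Odd.Step

/-!
For odd primes every element of `C_S(T)` is, up to an element of `T`, centralized by a normal subsystem
over `T`.
-/

set_option autoImplicit false
set_option linter.unusedSectionVars false
set_option linter.style.haveILetI false

namespace Cfsg.FusionSystem.SubCent.Odd

universe u

variable {Ω : Type u} [Group Ω] {S T : Subgroup Ω} {F : FusionSystem S} {E : FusionSystem T}
  {P Q R : Subgroup Ω} {f g : Ω → Ω} {p : ℕ} {y : Ω}

/-- The initial subgroup `J(T) C_T(J(T))`. -/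
abbrev baseSub (T : Subgroup Ω) : Subgroup Ω := jcent T (thompson T)

/-- The normalization of the element. -/
def Init (E : FusionSystem T) (F : FusionSystem S) (p : ℕ) (y : Ω) : Prop :=
  y ∈ centralizerIn S T ∧ FixAll E F p T y ∧ FixAll E F p (baseSub T) y

theorem baseSub_le : baseSub T ≤ T := jcent_le thompson_le

variable [Finite S]

theorem thompson_baseSub (hT : T ≤ S) : thompson (baseSub T) = thompson T := by
  haveI := finite_of_le hT
  exact thompson_eq_of_between le_sup_left baseSub_le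

theorem baseSub_maps (hT : F.StronglyClosed T) (h : F.IsIso T T f) : ∀ x ∈ baseSub T, f x ∈ baseSub T :=
  jcent_maps hT h baseSub_le (thompson_image h)

variable [Fact p.Prime]

theorem thompson_fullyNormalized (hT : F.StronglyClosed T) : F.IsFullyNormalized (thompson T) := by
  refine ⟨thompson_le.trans hT.1, fun Q _ => ?_⟩
  have e : normalizerIn S (thompson T) = S := by
    refine le_antisymm normalizerIn_le fun s hs => ⟨hs, ?_⟩
    haveI := finite_of_le (thompson_le.trans hT.1 : thompson T ≤ S)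
    refine Subgroup.mem_normalizer_fintype fun x hx => ?_
    exact thompson_maps (isIso_conj_normalizer (E := F) hT.1 hs (hT.le_normalizer hs)) x hx
  rw [e]
  exact Subgroup.card_le_of_le normalizerIn_le

theorem baseSub_props (hS : IsPGroup p S) (hE : E.IsNormalIn F p) :
    F.IsFullyNormalized (baseSub T) ∧ E.IsCentric (baseSub T) :=
  jcent_props hS hE (thompson_fullyNormalized hE.1.2.2.2.1) thompson_le
    (thompson_baseSub hE.1.2.2.2.1.1)

theorem Init.map (hS : IsPGroup p S) (hE : E.IsNormalIn F p) (hy : Init E F p y) {a : Ω → Ω}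
    (ha : F.IsIso (T ⊔ centralizerIn S T) (T ⊔ centralizerIn S T) a) (haT : ∀ x ∈ T, a x ∈ T) :
    Init E F p (a y) := by
  obtain ⟨hEs, hF, hEi⟩ := id hE.1
  have hT := hEi.2.1
  obtain ⟨hy1, hy2, hy3⟩ := hy
  exact ⟨map_centralizer ha le_sup_left (image_self ha le_sup_left haT) hy1 (Subgroup.mem_sup_right hy1),
    fixAll_invariant hS hE le_rfl
      (hF.isFullyCentralized_of_isFullyNormalized hS (isFullyNormalized_of_stronglyClosed hT))
      ha haT hy1 hy2,
    fixAll_invariant hS hE baseSub_le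
      (hF.isFullyCentralized_of_isFullyNormalized hS (baseSub_props hS hE).1)
      ha (baseSub_maps hT (isIso_self ha le_sup_left haT)) hy1 hy3⟩

/-- The automizer of `T`. -/
theorem autGroup_top (hS : IsPGroup p S) (hE : E.IsNormalIn F p) (hy : y ∈ centralizerIn S T)
    (hfix : FixAll E F p T y) : E.autGroup T ≤ (fixSys hE hy).autGroup T := by
  obtain ⟨hEs, hF, hEi⟩ := id hE.1
  have hT := hEi.2.1
  haveI := finite_of_le hT.1
  haveI := finite_autGroup (F := E) (le_refl T)
  have hX := zpowers_le_cent hy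
  set K := fixSys hE hy
  obtain ⟨-, U, hU⟩ := hEs.isFullyAutomized_of_isFullyNormalized (hS.to_le hT.1)
    (isFullyNormalized_self (F := E))
  suffices htop : (K.autGroup T).subgroupOf (E.autGroup T) = ⊤ from Subgroup.subgroupOf_eq_top.mp htop
  refine eq_top_of_sylow_of_pprime _ U (hU.le.trans fun a ha => K.autInducedBy_le_autGroup le_rfl ha) ?_
  rintro ⟨α, hα⟩ hord
  rw [← Subgroup.orderOf_coe] at hord
  obtain ⟨f, hf, hfe⟩ := autGroup_le_liftable hE hα
  obtain ⟨g, hg, hgf, m, hm, hper⟩ := hf.exists_pprime hord fun x hx => by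
    rw [← coe_pow_apply hfe (orderOf α) ⟨x, hx⟩, pow_orderOf_eq_one]; rfl
  obtain ⟨φ, hφ, hφr, hφe⟩ := E.exists_map_of_mem_autGroup le_rfl hα
  have heq : ∀ x : T, φ x = g x := fun x => by rw [hφe, hfe, hgf x x.2]
  have hgy : g y = y := hfix g ⟨hg, ⟨φ, hφ, hφr, heq⟩, m, hm, hper⟩
  have hXfix : ∀ x ∈ Subgroup.zpowers y, g x = x := by
    intro x hx
    refine forall_closure_fixed hg.iso (s := {y}) ?_ (fun z hz => ?_) x
      (by rw [← Subgroup.zpowers_eq_closure]; exact hx)
    · rw [← Subgroup.zpowers_eq_closure]; exact hX.trans le_sup_right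
    · rw [Set.mem_singleton_iff.mp hz]; exact hgy
  obtain ⟨Q, hQ, -, -⟩ := hg.iso.restrict (sup_le_sup_left hX T)
  exact Subgroup.mem_subgroupOf.mpr (K.mem_autGroup_of_map (φ := φ)
    ⟨hφ, mem_centralizerHom hEi.1 hX hφ hQ heq hXfix⟩ fun x => (hφe x).symm)

set_option maxHeartbeats 400000 in
/-- The lifts at a fully normalized subgroup whose Thompson subgroup is fully normalized. -/
theorem lifts_fix (hp2 : p ≠ 2) (hS : IsPGroup p S) (hE : E.IsNormalIn F p) (hy : Init E F p y)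
    (hPT : P ≤ T) (hPn : F.IsFullyNormalized P) (hJn : F.IsFullyNormalized (thompson P))
    (hPc : E.IsCentric P) (hbig : ∀ U ≤ T, key S P < key S U → Fixes E F y U)
    (hf : PLift E F p P f) (hO : InO E P f) : f y = y := by
  obtain ⟨hEs, hF, hEi⟩ := id hE.1
  have hT := hEi.2.1
  have hPS := hPT.trans hT.1
  haveI := finite_of_le hT.1
  haveI := finite_of_le hPS
  have hTp : IsPGroup p T := hS.to_le hT.1
  have hqT : ∀ U : Subgroup Ω, quadSub T U ≤ T := fun U => quadSub_le.trans normalizerIn_le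
  rcases (le_quadSub hPT : P ≤ quadSub T P).lt_or_eq with hlt | heq
  · exact fixed_of_quad hp2 hS hE hPT hPn hPc hy.1
      (hbig _ (hqT P) (key_lt_of_lt ((hqT P).trans hT.1) hlt)) hf
  set J := thompson P with hJdef
  have hJP : J ≤ P := thompson_le
  have hJT : J ≤ T := hJP.trans hPT
  -- `C_T(J) ≤ P`
  have hCP : centralizerIn T J ≤ P := by
    by_contra hnot
    have hPN : P ≤ Subgroup.normalizer (centralizerIn T J : Set Ω) := fun x hx => by
      haveI := finite_centralizerIn (S := T) (P := J)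
      refine Subgroup.mem_normalizer_fintype fun c hc => ?_
      refine ⟨T.mul_mem (T.mul_mem (hPT hx) hc.1) (T.inv_mem (hPT hx)),
        Subgroup.mem_centralizer_iff.mpr fun j hj => ?_⟩
      have h1 : x⁻¹ * j * x ∈ J := by
        have := thompson_maps (isIso_conj_normalizer (E := F) hPS (hPS (P.inv_mem hx))
          (Subgroup.le_normalizer (P.inv_mem hx))) j hj
        simpa [mul_assoc] using this
      calc j * (x * c * x⁻¹) = x * (x⁻¹ * j * x * c) * x⁻¹ := by group
        _ = x * (c * (x⁻¹ * j * x)) * x⁻¹ := by rw [Subgroup.mem_centralizer_iff.mp hc.2 _ h1]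
        _ = x * c * x⁻¹ * j := by group
    have hlt : P < centralizerIn T J ⊔ P :=
      lt_of_le_of_ne le_sup_right fun e => hnot (le_sup_left.trans e.ge)
    have hle : centralizerIn T J ⊔ P ≤ T := sup_le centralizerIn_le hPT
    haveI := finite_of_le hle
    obtain ⟨w, hw, hwP⟩ := SetLike.exists_of_lt (lt_normalizerIn (hTp.to_le hle) hlt)
    have hw1 : w ∈ (↑(centralizerIn T J ⊔ P) : Set Ω) := hw.1
    rw [Subgroup.coe_mul_of_right_le_normalizer_left _ _ hPN] at hw1
    obtain ⟨c, hc, x, hx, rfl⟩ := hw1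
    have hcN : c ∈ normalizerIn T P := ⟨hc.1, by
      have := Subgroup.mul_mem _ hw.2
        (Subgroup.inv_mem _ (Subgroup.le_normalizer hx : x ∈ Subgroup.normalizer (P : Set Ω)))
      simpa [mul_assoc] using this⟩
    have hcq : c ∈ quadSub T P := Subgroup.subset_closure ⟨hcN, fun d hd => by
      have hdJ : d ∈ J := center_le_thompson hd
      have h1 : c * d * c⁻¹ * d⁻¹ = 1 := by
        rw [← Subgroup.mem_centralizer_iff.mp hc.2 d hdJ, mul_inv_cancel_right, mul_inv_cancel]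
      rw [h1, mul_one, mul_inv_cancel]⟩
    exact hwP (P.mul_mem (heq ▸ hcq) hx)
  set Y := jcent T J with hYdef
  have hYP : Y ≤ P := sup_le hJP hCP
  have hYJ : thompson Y = J := thompson_eq_of_between le_sup_left hYP
  have hYr : abRank Y = abRank P := abRank_eq_of_between le_sup_left hYP
  obtain ⟨hYn, hYc⟩ := jcent_props hS hE hJn hJT hYJ
  refine descend hS hE hPT hYP hYn hYc
    ((center_le_thompson (U := P)).trans (le_sup_left : J ≤ Y)) (fun α hα r hr => ?_) hy.1 ?_ hf hO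
  · obtain ⟨a, ha, hae⟩ := isIso_of_aut hPT hα
    have ha' := ha.mono hEi.1
    rw [hae]
    exact jcent_maps hT ha' hYP (thompson_image ha') r hr
  -- all lifts at `Y` fix `y`
  by_cases hbase : Y = baseSub T
  · rw [hbase]; exact hy.2.2
  set M := normalizerIn T J with hMdef
  have hMT : M ≤ T := normalizerIn_le
  haveI := finite_of_le hMT
  have hYM : Y ≤ M := sup_le (le_normalizerIn hJT) fun c hc => ⟨hc.1, by
    refine Subgroup.mem_normalizer_iff.mpr fun j => ⟨fun hj => ?_, fun hj => ?_⟩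
    · rwa [← Subgroup.mem_centralizer_iff.mp hc.2 j hj, mul_inv_cancel_right]
    · have h1 := Subgroup.mem_centralizer_iff.mp hc.2 _ hj
      have h2 : c * j * c⁻¹ = j := by
        calc c * j * c⁻¹ = c⁻¹ * (c * (c * j * c⁻¹)) := by group
          _ = c⁻¹ * (c * j * c⁻¹ * c) := by rw [h1]
          _ = j := by group
      rwa [h2] at hj⟩
  have hYT : Y ≤ T := hYP.trans hPT
  have hNY : normalizerIn T J ≤ normalizerIn T Y := fun x hx =>
    ⟨hx.1, (normalizerIn_le_jcent hT hJT ⟨hT.1 hx.1, hx.2⟩).2⟩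
  have hMY : M ≤ Subgroup.normalizer (Y : Set Ω) := fun x hx => (hNY hx).2
  have hnot : ∃ A ∈ abMaxes M, ¬ A ≤ Y := by
    by_contra hcon
    push Not at hcon
    have hMY' : thompson M ≤ Y := sSup_le hcon
    have hJM : thompson M = J := by rw [← thompson_eq_of_between hMY' hYM, hYJ]
    by_cases hMT' : M = T
    · exact hbase (by rw [hYdef, baseSub, ← hJM, hMT'])
    obtain ⟨w, hw, hwM⟩ := SetLike.exists_of_lt (lt_normalizerIn hTp (lt_of_le_of_ne hMT hMT'))
    refine hwM ⟨hw.1, ?_⟩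
    haveI := finite_of_le (hJT.trans hT.1)
    refine Subgroup.mem_normalizer_fintype fun x hx => ?_
    have h1 : x ∈ thompson M := hJM.ge hx
    exact hJM.le (thompson_maps (isIso_conj_normalizer (E := F) (hMT.trans hT.1) (hT.1 hw.1) hw.2) x h1)
  obtain ⟨A, hA, hAY, hAq⟩ := exists_quad_abMax hp2 (hTp.to_le hMT) hYM hMY hnot
  have hAQ : A ≤ quadSub T Y := fun t ht => Subgroup.subset_closure ⟨hNY (hA.1.1 ht), hAq t ht⟩
  have hkey : key S P < key S (quadSub T Y) := by
    have hQS : quadSub T Y ≤ S := (hqT Y).trans hT.1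
    haveI := finite_of_le hQS
    have hYQ : Y ≤ quadSub T Y := le_quadSub hYT
    refine key_lt_of_thompson hPS hQS ?_
    rcases (hYr ▸ abRank_mono hYQ : abRank P ≤ abRank (quadSub T Y)).lt_or_eq with h | h
    · exact Or.inl h
    refine Or.inr ⟨h, ?_⟩
    haveI := finite_of_le (thompson_le : thompson (quadSub T Y) ≤ quadSub T Y)
    have hJle : J ≤ thompson (quadSub T Y) := hYJ ▸ thompson_mono hYQ (hYr.trans h)
    refine card_lt_of_lt (lt_of_le_of_ne hJle fun e => hAY ?_)
    have hAmax : A ∈ abMaxes (quadSub T Y) := by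
      refine ⟨⟨hAQ, hA.1.2⟩, le_antisymm (card_le_abRank ⟨hAQ, hA.1.2⟩) ?_⟩
      rw [← h, ← hYr, hA.2]
      exact abRank_mono hYM
    exact ((le_sSup hAmax).trans e.ge).trans le_sup_left
  intro f' hf'
  exact fixed_of_quad hp2 hS hE hYT hYn hYc hy.1 (hbig _ (hqT Y) hkey) hf'

/-- The maps on subgroups of large key fix `y`. -/
def keySys (hE : E.IsNormalIn F p) (hy : y ∈ centralizerIn S T) (n : ℕ) : FusionSystem T where
  Hom U := {φ | φ ∈ E.Hom U ∧ (n ≤ key S U → φ ∈ (fixSys hE hy).Hom U)}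
  le_of_mem h := E.le_of_mem h.1
  injective_of_mem h := E.injective_of_mem h.1
  conj_mem := fun hP ht => ⟨E.conj_mem hP ht, fun _ => (fixSys hE hy).conj_mem hP ht⟩
  comp_mem := by
    intro U Q φ ψ hφ hψ h
    refine ⟨E.comp_mem hφ.1 hψ.1 h, fun hn => ?_⟩
    have hQS : Q ≤ S := (E.source_le hψ.1).trans hE.1.2.2.2.1.1
    have hkey : key S U ≤ key S Q := by
      rw [key_iso ((isIso_funOf hφ.1).mono hE.1.2.2.1)]
      refine key_mono hQS ?_
      rintro _ ⟨x, rfl⟩
      exact h x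
    exact (fixSys hE hy).comp_mem (hφ.2 hn) (hψ.2 (hn.trans hkey)) h
  inv_mem := by
    intro U φ hφ
    obtain ⟨ψ, hψ, he⟩ := E.inv_mem hφ.1
    refine ⟨ψ, ⟨hψ, fun hn => ?_⟩, he⟩
    rw [← key_iso ((isIso_funOf hφ.1).mono hE.1.2.2.1)] at hn
    obtain ⟨ψ', hψ', he'⟩ := (fixSys hE hy).inv_mem (hφ.2 hn)
    have : ψ = ψ' := MonoidHom.ext fun ⟨_, x, rfl⟩ => (he x).trans (he' x).symm
    rw [this]; exact hψ'

set_option maxHeartbeats 400000 in
/-- A normalized element is fixed by all maps of `E`. -/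
theorem fixes_of_init (hp2 : p ≠ 2) (hS : IsPGroup p S) (hE : E.IsNormalIn F p) :
    ∀ (d n : ℕ), (∀ U ≤ T, key S U < n + d) → ∀ y : Ω, Init E F p y →
      ∀ U ≤ T, n ≤ key S U → Fixes E F y U := by
  obtain ⟨hEs, hF, hEi⟩ := id hE.1
  have hT := hEi.2.1
  haveI := finite_of_le hT.1
  have hTp : IsPGroup p T := hS.to_le hT.1
  intro d
  induction d with
  | zero => intro n hb _ _ U hU hn; exact absurd (hb U hU) (by simpa using hn)
  | succ d ih =>
    intro n hb y hy U hU hn φ hφ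
    have hIH : ∀ z : Ω, Init E F p z → ∀ U ≤ T, n < key S U → Fixes E F z U := fun z hz U hU hn =>
      ih (n + 1) (fun U hU => by have := hb U hU; omega) z hz U hU hn
    suffices hle : E ≤ keySys hE hy.1 n from ((hle U hφ).2 hn).2
    refine hEs.le_of_autGroup_le' hTp _ fun R hR _ => ?_
    obtain ⟨hRc, hRT⟩ : E.IsCentric R ∧ R ≤ T := by
      rcases hR with rfl | hR
      · exact ⟨isCentric_self, le_rfl⟩
      · exact ⟨hR.1, hR.1.1⟩
    intro β hβ
    obtain ⟨φ', hφ', -, hφ'e⟩ := E.exists_map_of_mem_autGroup hRT hβ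
    refine (keySys hE hy.1 n).mem_autGroup_of_map (φ := φ') ⟨hφ', fun hn' => ?_⟩ fun x => (hφ'e x).symm
    suffices hmain : E.autGroup R ≤ (fixSys hE hy.1).autGroup R by
      obtain ⟨χ, hχ, -, hχe⟩ := (fixSys hE hy.1).exists_map_of_mem_autGroup hRT (hmain hβ)
      have : φ' = χ := MonoidHom.ext fun x => (hφ'e x).trans (hχe x).symm
      rw [this]; exact hχ
    by_cases hRT' : R = T
    · subst hRT'
      exact autGroup_top hS hE hy.1 hy.2.1
    have hRlt : R < T := lt_of_le_of_ne hRT hRT'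
    have hRS := hRT.trans hT.1
    -- first transport
    obtain ⟨P, hRP, hPn⟩ := F.exists_isFullyNormalized hRS
    obtain ⟨φ₁, hφ₁, hφ₁r, ψ₁, hψ₁, -, hψ₁e⟩ := hF.exists_map_to_fullyNormalized hS hPn hRP
    set H₁ := funOf ψ₁ with hH₁
    have hH₁i : F.IsIso R P H₁ := ⟨φ₁, hφ₁, hφ₁r, fun x => by
      rw [← hψ₁e x (le_normalizerIn hRS x.2)]; exact funOf_apply ψ₁ _⟩
    have hV₁S : normalizerIn T R ≤ normalizerIn S R := fun x hx => ⟨hT.1 hx.1, hx.2⟩
    obtain ⟨V₁', hV₁, -, -⟩ := (isIso_funOf hψ₁).restrict hV₁S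
    have hkR : key S R < key S (normalizerIn T R) :=
      key_lt_of_lt (normalizerIn_le.trans hT.1) (lt_normalizerIn hTp hRlt)
    refine autGroup_le_fixSys_of_conj hS hE hy.1 (le_normalizerIn hRT) normalizerIn_le hV₁
      (fun z => ⟨hH₁i.surj, fun ⟨x, hx, he⟩ => he ▸ hH₁i.mem hx⟩)
      (hIH y hy _ normalizerIn_le (by omega)) fun a ha haT haz => ?_
    have hz := hy.map hS hE ha haT
    -- second transport
    have hPT : P ≤ T := hT.iso_le hH₁i hRT
    have hPS := hPT.trans hT.1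
    have hPlt : P < T := lt_of_le_of_ne hPT fun e => hRT' (Subgroup.eq_of_le_of_card_ge hRT
      (le_of_eq (by rw [hH₁i.card_eq, e])))
    have hkP : key S R = key S P := key_iso hH₁i
    haveI := finite_of_le hPS
    set J := thompson P with hJdef
    have hJS : J ≤ S := thompson_le.trans hPS
    obtain ⟨J', hJJ', hJ'n⟩ := F.exists_isFullyNormalized hJS
    obtain ⟨φ₂, hφ₂, hφ₂r, ψ₂, hψ₂, -, hψ₂e⟩ := hF.exists_map_to_fullyNormalized hS hJ'n hJJ'
    set H₂ := funOf ψ₂ with hH₂
    have hH₂J : F.IsIso J J' H₂ := ⟨φ₂, hφ₂, hφ₂r, fun x => by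
      rw [← hψ₂e x (le_normalizerIn hJS x.2)]; exact funOf_apply ψ₂ _⟩
    haveI := finite_of_le hJS
    have hNle : normalizerIn S P ≤ normalizerIn S J := fun s hs =>
      ⟨hs.1, Subgroup.mem_normalizer_fintype fun x hx =>
        thompson_maps (isIso_conj_normalizer (E := F) hPS hs.1 hs.2) x hx⟩
    have hPN : P ≤ normalizerIn S J := (le_normalizerIn hPS).trans hNle
    obtain ⟨P', hP', -, hP'm⟩ := (isIso_funOf hψ₂).restrict hPN
    have hJP' : thompson P' = J' := Subgroup.ext fun x => (thompson_image hP' x).trans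
      ⟨fun ⟨z, hz, he⟩ => he ▸ hH₂J.mem hz, fun hx => hH₂J.surj hx⟩
    have hP'n : F.IsFullyNormalized P' := by
      refine ⟨hP'.le_right, fun Q hQ => (hPn.2 Q (hP'.isConj.trans hQ)).trans ?_⟩
      obtain ⟨N', hN', -, hN'm⟩ := (isIso_funOf hψ₂).restrict hNle
      rw [hN'.card_eq]
      haveI := finite_of_le (normalizerIn_le : normalizerIn S P' ≤ S)
      refine Subgroup.card_le_of_le fun x hx => ?_
      obtain ⟨z, hz, rfl⟩ := (hN'm x).mp hx
      exact ⟨hN'.le_right (hN'.mem hz), hN'.mem_normalizer (le_normalizerIn hPS) hP'm hz hz.2⟩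
    have hV₂S : normalizerIn T J ≤ normalizerIn S J := fun x hx => ⟨hT.1 hx.1, hx.2⟩
    obtain ⟨V₂', hV₂, -, -⟩ := (isIso_funOf hψ₂).restrict hV₂S
    have hPV : P ≤ normalizerIn T J := fun x hx => ⟨hPT hx, (hPN hx).2⟩
    have hkV : key S P < key S (normalizerIn T J) := by
      refine key_lt_of_lt (normalizerIn_le.trans hT.1) (lt_of_lt_of_le (lt_normalizerIn hTp hPlt) ?_)
      exact fun x hx => ⟨hx.1, (hNle ⟨hT.1 hx.1, hx.2⟩).2⟩
    refine autGroup_le_fixSys_of_conj hS hE haz hPV normalizerIn_le hV₂ hP'm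
      (hIH _ hz _ normalizerIn_le (by omega)) fun b hb hbT hbz => ?_
    -- the fully normalized case
    have hw := hz.map hS hE hb hbT
    have hP'T : P' ≤ T := hT.iso_le hP' hPT
    have hkP' : key S P = key S P' := key_iso hP'
    have hP'c : E.IsCentric P' :=
      hEi.isCentric_of_isIso (hEi.isCentric_of_isIso hRc hH₁i) hP'
    have hP'lt : P' < T := lt_of_le_of_ne hP'T fun e => hPlt.ne
      (Subgroup.eq_of_le_of_card_ge hPT (le_of_eq (by rw [hP'.card_eq, e])))
    refine autGroup_le_fixSys hS hE hbz hP'T hP'n hP'c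
      (fun f hf hO => lifts_fix hp2 hS hE hw hP'T hP'n (hJP'.symm ▸ hJ'n) hP'c
        (fun U hU hk => hIH _ hw U hU (by omega)) hf hO)
      (hIH _ hw _ (sup_le hP'T normalizerIn_le) ?_)
    have := key_lt_of_lt (S := S) ((sup_le hP'T normalizerIn_le : P' ⊔ normalizerIn T P' ≤ T).trans hT.1)
      (lt_of_lt_of_le (lt_normalizerIn hTp hP'lt) le_sup_right)
    omega

set_option maxHeartbeats 400000 in
/-- Every element of `C_S(T)` is normalized modulo `T`. -/
theorem exists_init (hS : IsPGroup p S) (hE : E.IsNormalIn F p) {c : Ω} (hc : c ∈ centralizerIn S T) :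
    ∃ d ∈ T, Init E F p (c * d) := by
  obtain ⟨hEs, hF, hEi⟩ := id hE.1
  have hT := hEi.2.1
  haveI := finite_of_le hT.1
  obtain ⟨hBn, hBc⟩ := baseSub_props hS hE
  have hBT : baseSub T ≤ T := baseSub_le
  obtain ⟨d₁, hd₁, -, hfix₁, hcomm₁⟩ := (lifts_main hS hE hBT hBn hBc hc).2 ⊤ fun _ _ _ => Subgroup.mem_top _
  have hd₁T : d₁ ∈ T := hBT hd₁.1
  have hBN : ∀ t ∈ T, t ∈ normalizerIn T (baseSub T) := fun t ht => ⟨ht,
    (normalizerIn_le_jcent hT thompson_le ⟨hT.1 ht, by
      haveI := finite_of_le (thompson_le.trans hT.1 : thompson T ≤ S)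
      exact Subgroup.mem_normalizer_fintype fun x hx =>
        thompson_maps (isIso_conj_normalizer (E := F) hT.1 (hT.1 ht) (Subgroup.le_normalizer ht)) x hx⟩).2⟩
  have hy₁ : c * d₁ ∈ centralizerIn S T := ⟨S.mul_mem hc.1 (hT.1 hd₁T),
    Subgroup.mem_centralizer_iff.mpr fun t ht => by
      have h1 := hcomm₁ t (hBN t ht)
      calc t * (c * d₁) = t * (c * d₁) * t⁻¹ * t := by group
        _ = c * d₁ * t := by rw [h1]⟩
  have hBfc := hF.isFullyCentralized_of_isFullyNormalized hS hBn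
  let Xs : Subgroup Ω :=
    { carrier := {x | x ∈ centralizerIn S T ∧ FixAll E F p (baseSub T) x}
      one_mem' := ⟨(centralizerIn S T).one_mem, fun f hf => hf.lift.iso.apply_one⟩
      mul_mem' := fun {a b} ha hb => ⟨(centralizerIn S T).mul_mem ha.1 hb.1, fun f hf => by
        rw [hf.lift.iso.apply_mul (Subgroup.mem_sup_right ⟨ha.1.1, Subgroup.centralizer_le hBT ha.1.2⟩)
          (Subgroup.mem_sup_right ⟨hb.1.1, Subgroup.centralizer_le hBT hb.1.2⟩), ha.2 f hf, hb.2 f hf]⟩
      inv_mem' := fun {a} ha => ⟨(centralizerIn S T).inv_mem ha.1, fun f hf => by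
        rw [hf.lift.iso.apply_inv (Subgroup.mem_sup_right ⟨ha.1.1, Subgroup.centralizer_le hBT ha.1.2⟩),
          ha.2 f hf]⟩ }
  have hXs : ∀ g, Lift F T g → E.IsIso T T g → g (c * d₁) ∈ Xs := fun g hg hgE =>
    ⟨hg.map_cent hy₁, fixAll_invariant hS hE hBT hBfc hg.iso
      (baseSub_maps hT (hgE.mono hEi.1)) hy₁ hfix₁⟩
  obtain ⟨d₂, hd₂, hX, hfix₂, -⟩ := (lifts_main hS hE le_rfl (isFullyNormalized_of_stronglyClosed hT)
    isCentric_self hy₁).2 Xs hXs
  refine ⟨d₁ * d₂, T.mul_mem hd₁T hd₂.1, ?_⟩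
  rw [← mul_assoc]
  exact ⟨hX.1, hfix₂, hX.2⟩

/-- For odd `p`, `C_S(T)` lies in `T C_S(E)`. -/
theorem centralizerIn_le_sup_centSub (hp2 : p ≠ 2) (hS : IsPGroup p S) (hE : E.IsNormalIn F p) :
    centralizerIn S T ≤ T ⊔ centSub E F := by
  intro c hc
  have hT := hE.1.2.2.2.1
  obtain ⟨d, hd, hy⟩ := exists_init hS hE hc
  have hw : c * d ∈ weakSet E F := by
    refine ⟨hy.1, fun P φ hφ => ?_⟩
    exact fixes_of_init hp2 hS hE (key S T + 1) 0
      (fun U hU => by have := key_mono hT.1 hU; omega) _ hy P (E.source_le hφ) (Nat.zero_le _) φ hφ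
  have := Subgroup.mul_mem (T ⊔ centSub E F) (Subgroup.mem_sup_right (Subgroup.subset_closure hw))
    (Subgroup.mem_sup_left (T.inv_mem hd))
  rwa [mul_inv_cancel_right] at this

end Cfsg.FusionSystem.SubCent.Odd
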