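import Cfsg.Agent.Lib.Fusion.SubCent.Odd.Descend

/-!
Automizers fixing an element, and their transport to fully normalized conjugates.
-/

set_option autoImplicit false
set_option linter.unusedSectionVars false
set_option linter.style.haveILetI false

namespace Cfsg.FusionSystem.SubCent.Odd

universe u

variable {Ω : Type u} [Group Ω] {S T : Subgroup Ω} {F : FusionSystem S} {E : FusionSystem T}
  {P Q R V V' : Subgroup Ω} {f g : Ω → Ω} {p : ℕ} {y : Ω}

theorem zpowers_le_cent (hy : y ∈ centralizerIn S T) : Subgroup.zpowers y ≤ centralizerIn S T :=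
  Subgroup.zpowers_le.mpr hy

variable [Finite S] [Fact p.Prime]

/-- The maps of `E` with an extension fixing `y`. -/
abbrev fixSys (hE : E.IsNormalIn F p) (hy : y ∈ centralizerIn S T) : FusionSystem T :=
  fixHomSystem E F hE.1.2.2.1 (zpowers_le_cent hy) hE.1.2.2.2.1.1

/-- The maps on `U` have extensions fixing `y`. -/
def Fixes (E : FusionSystem T) (F : FusionSystem S) (y : Ω) (U : Subgroup Ω) : Prop :=
  ∀ φ ∈ E.Hom U, φ ∈ F.centralizerHom (Subgroup.zpowers y) U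

/-- The Frattini argument at a fully normalized subgroup. -/
theorem autGroup_le_fixSys (hS : IsPGroup p S) (hE : E.IsNormalIn F p) (hy : y ∈ centralizerIn S T)
    (hPT : P ≤ T) (hPn : F.IsFullyNormalized P) (hPc : E.IsCentric P)
    (hlift : ∀ f, PLift E F p P f → InO E P f → f y = y)
    (hbig : Fixes E F y (P ⊔ normalizerIn T P)) :
    E.autGroup P ≤ (fixSys hE hy).autGroup P := by
  obtain ⟨hEs, hF, hEi⟩ := id hE.1
  have hT := hEi.2.1
  haveI := finite_of_le hT.1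
  haveI := finite_autGroup (F := E) hPT
  have hTp : IsPGroup p T := hS.to_le hT.1
  have hX := zpowers_le_cent hy
  set K := fixSys hE hy
  have hPfc := hF.isFullyCentralized_of_isFullyNormalized hS hPn
  have hEn : E.IsFullyNormalized P := hPn.of_invariant hEi hS hF hPT
  have hyP : Subgroup.zpowers y ≤ centralizerIn S P :=
    fun x hx => ⟨(hX hx).1, Subgroup.centralizer_le hPT (hX hx).2⟩
  set G := E.autGroup P with hGdef
  let KK : Subgroup G := (K.autGroup P).subgroupOf G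
  -- liftable elements of order prime to `p` of the normal closure
  have hprime : ∀ a : G, a ∈ oSub E P → (a : MulAut P) ∈ liftable F P hPfc.1 → ¬ p ∣ orderOf a →
      a ∈ KK := by
    rintro ⟨α, hα⟩ haO ⟨f, hf, hfe⟩ hord
    rw [← Subgroup.orderOf_coe] at hord
    obtain ⟨g, hg, hgf, m, hm, hper⟩ := hf.exists_pprime hord fun x hx => by
      rw [← coe_pow_apply hfe (orderOf α) ⟨x, hx⟩, pow_orderOf_eq_one]; rfl
    obtain ⟨φ, hφ, hφr, hφe⟩ := E.exists_map_of_mem_autGroup hPT hα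
    have heq : ∀ x : P, φ x = g x := fun x => by rw [hφe, hfe, hgf x x.2]
    have hEiso : E.IsIso P P g := ⟨φ, hφ, hφr, heq⟩
    have hgy : g y = y := hlift g ⟨hg, hEiso, m, hm, hper⟩ fun β hβ => by
      have : β = ⟨α, hα⟩ := Subtype.ext (MulEquiv.ext fun x =>
        Subtype.ext ((hβ x).trans ((heq x).symm.trans (hφe x))))
      exact this ▸ haO
    have hXfix : ∀ x ∈ Subgroup.zpowers y, g x = x := by
      intro x hx
      refine forall_closure_fixed hg.iso (s := {y}) ?_ (fun z hz => ?_) x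
        (by rw [← Subgroup.zpowers_eq_closure]; exact hx)
      · rw [← Subgroup.zpowers_eq_closure]; exact hyP.trans le_sup_right
      · rw [Set.mem_singleton_iff.mp hz]; exact hgy
    obtain ⟨Q, hQ, -, -⟩ := hg.iso.restrict (sup_le_sup_left hyP P)
    exact Subgroup.mem_subgroupOf.mpr (K.mem_autGroup_of_map (φ := φ)
      ⟨hφ, mem_centralizerHom hEi.1 hX hφ hQ heq hXfix⟩ fun x => (hφe x).symm)
  obtain ⟨-, U, hU⟩ : E.IsFullyAutomized p P := hEs.isFullyAutomized_of_isFullyNormalized hTp hEn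
  have hUK : (U : Subgroup G) ≤ KK := by
    rw [hU]
    exact fun a ha => K.autInducedBy_le_autGroup hPT ha
  suffices htop : KK = ⊤ from Subgroup.subgroupOf_eq_top.mp htop
  let L' : Subgroup G := (liftable F P hPfc.1).subgroupOf G
  have hL'n : L'.Normal := ⟨fun a ha b => by
    have := liftable_conj hS hF hPfc (α := (a : MulAut P)) (β := (b : MulAut P)) ha
      (hEi.1.isIso_autGroup hPT b.2)
    simpa [L', Subgroup.mem_subgroupOf] using this⟩
  have hUO : (U : Subgroup G) ≤ oSub E P := hU.le.trans Subgroup.subset_normalClosure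
  have hO : oSub E P ≤ L' :=
    Subgroup.normalClosure_le_normal fun a ha =>
      autInducedBy_le_liftable hT hPT hPc.centralizerIn_le_self ha
  haveI : (oSub E P).Normal := Subgroup.normalClosure_normal
  have hOK : oSub E P ≤ KK := by
    refine Subgroup.subgroupOf_eq_top.mp (eq_top_of_sylow_of_pprime (KK.subgroupOf (oSub E P))
      (U.subtype hUO) ?_ fun a ha => ?_)
    · rw [Sylow.coe_subtype]
      exact fun a ha => Subgroup.mem_subgroupOf.mpr (hUK ha)
    · exact Subgroup.mem_subgroupOf.mpr (hprime (a : G) a.2 (hO a.2) (by rwa [Subgroup.orderOf_coe]))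
  have htop := (U.subtype hUO).normalizer_sup_eq_top
  rw [Sylow.coe_subtype, Subgroup.map_subgroupOf_eq_of_le hUO] at htop
  rw [eq_top_iff, ← htop]
  refine sup_le (fun n hn => ?_) hOK
  obtain ⟨ψ, hψ, hψe⟩ := exists_extension_of_normalizes (γ := (n : MulAut P)) (M := normalizerIn T P)
    (hEs.isReceptive_of_isFullyNormalized hTp hEn) n.2 le_rfl (by
      intro t ht htn
      let c : G := ⟨P.normalizerMonoidHom ⟨t, htn⟩,
        autInducedBy_le_autGroup hPT (mem_autInducedBy_iff.mpr ⟨t, ht.1, htn, fun _ => rfl⟩)⟩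
      have hc : c ∈ (U : Subgroup G) :=
        hU.ge (mem_autInducedBy_iff.mpr ⟨t, ht.1, htn, fun _ => rfl⟩ : (c : MulAut P) ∈ autInducedBy T P)
      exact hU.le ((Subgroup.mem_normalizer_iff.mp hn c).mp hc))
  exact K.mem_autGroup_of_map (K.restrict_mem ⟨hψ, hbig ψ hψ⟩ le_sup_left) fun x => (hψe x).symm

set_option maxHeartbeats 400000 in
/-- Transport from a conjugate. -/
theorem autGroup_le_fixSys_of_conj (hS : IsPGroup p S) (hE : E.IsNormalIn F p)
    (hy : y ∈ centralizerIn S T) (hRV : R ≤ V) (hVT : V ≤ T) {H : Ω → Ω} (hH : F.IsIso V V' H)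
    {P0 : Subgroup Ω} (hP0 : ∀ z, z ∈ P0 ↔ ∃ x ∈ R, H x = z) (hV : Fixes E F y V)
    (h0 : ∀ a : Ω → Ω, F.IsIso (T ⊔ centralizerIn S T) (T ⊔ centralizerIn S T) a → (∀ x ∈ T, a x ∈ T) →
      ∀ hay : a y ∈ centralizerIn S T, E.autGroup P0 ≤ (fixSys hE hay).autGroup P0) :
    E.autGroup R ≤ (fixSys hE hy).autGroup R := by
  obtain ⟨hEs, hF, hEi⟩ := id hE.1
  have hT := hEi.2.1
  haveI := finite_of_le hT.1
  have hX := zpowers_le_cent hy
  have hRT : R ≤ T := hRV.trans hVT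
  set X := Subgroup.zpowers y with hXdef
  set K := fixSys hE hy
  have hPφ : F.IsIso R P0 H := hH.restrict' hRV hP0
  have hP0T : P0 ≤ T := hT.iso_le hPφ hRT
  have hTn := isFullyNormalized_of_stronglyClosed hT
  obtain ⟨a, Q0, e, ha, he, hHae, -⟩ := hEi.frattini_iso hH hVT
  obtain ⟨φe, hφe, -, hφee⟩ := id he
  obtain ⟨-, -, -, ε₀, hε₀, hε₀e, hε₀fix⟩ := hV _ hφe
  set ε := funOf ε₀
  have hεV : ∀ x ∈ V, ε x = e x := fun x hx => by
    rw [← hφee ⟨x, hx⟩, ← hε₀e ⟨x, hx⟩]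
    exact (funOf_apply ε₀ (Subgroup.inclusion le_sup_left ⟨x, hx⟩)).symm
  have hεX : ∀ x ∈ X, ε x = x := fun x hx =>
    (funOf_apply ε₀ (Subgroup.inclusion le_sup_right ⟨x, hx⟩)).symm.trans (hε₀fix ⟨x, hx⟩)
  have hεiso := isIso_funOf hε₀
  obtain ⟨a', ha', ha'e⟩ := extend_ext hS hF (hF.isFullyCentralized_of_isFullyNormalized hS hTn) ha
  have ha'T : ∀ x ∈ T, a' x ∈ T := fun x hx => by rw [ha'e x hx]; exact ha.mem hx
  have hyW : y ∈ T ⊔ centralizerIn S T := Subgroup.mem_sup_right hy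
  have hay : a' y ∈ centralizerIn S T :=
    map_centralizer ha' le_sup_left (image_self ha' le_sup_left ha'T) hy hyW
  have hcore := h0 a' ha' ha'T hay
  obtain ⟨Q1, hQ1, -, hQ1m⟩ := he.restrict hRV
  have hQ1T : Q1 ≤ T := hQ1.le_right
  have hε' : F.IsIso (R ⊔ X) (Q1 ⊔ X) ε := by
    refine sup_image hεiso (hRV.trans le_sup_left) le_sup_right (fun z => (hQ1m z).trans ?_)
      (image_self hεiso le_sup_right fun x hx => by rw [hεX x hx]; exact hx)
    exact ⟨fun ⟨x, hx, h⟩ => ⟨x, hx, (hεV x (hRV hx)).trans h⟩,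
      fun ⟨x, hx, h⟩ => ⟨x, hx, (hεV x (hRV hx)).symm.trans h⟩⟩
  have ha'' : F.IsIso (Q1 ⊔ X) (P0 ⊔ Subgroup.zpowers (a' y)) a' := by
    refine sup_image ha' (hQ1T.trans le_sup_left) (hX.trans le_sup_right) (fun z => ⟨fun hz => ?_, ?_⟩)
      (image_zpowers ha' hyW)
    · obtain ⟨x, hx, rfl⟩ := hPφ.surj hz
      exact ⟨e x, (hQ1m _).mpr ⟨x, hx, rfl⟩,
        (ha'e _ (hQ1T ((hQ1m _).mpr ⟨x, hx, rfl⟩))).trans (hHae x (hRV hx)).symm⟩
    · rintro ⟨w, hw, rfl⟩
      obtain ⟨x, hx, rfl⟩ := (hQ1m w).mp hw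
      rw [ha'e _ (hQ1T hw), ← hHae x (hRV hx)]
      exact hPφ.mem hx
  have hχ := hε'.comp ha''
  have hχP : ∀ x ∈ R, a' (ε x) = H x := fun x hx => by
    rw [hεV x (hRV hx), ha'e _ (hQ1T ((hQ1m _).mpr ⟨x, hx, rfl⟩)), ← hHae x (hRV hx)]
  obtain ⟨χ', hχ', hχl, -⟩ := hχ.symm
  intro β hβ
  obtain ⟨bfun, hb, hbe⟩ := isIso_of_aut hRT hβ
  obtain ⟨f', hf', hf'e⟩ := hEi.iso_transport hH hVT hb hRV hRV (P' := P0) (Q' := P0) hP0 hP0
  obtain ⟨β0, hβ0, hβ0e⟩ := hf'.toAut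
  obtain ⟨φ0, hφ0, -, hφ0e⟩ := (fixSys hE hay).exists_map_of_mem_autGroup hP0T (hcore hβ0)
  obtain ⟨-, -, -, -, g0, hg0, hg0e, hg0fix⟩ := hφ0
  have hg : ∀ x ∈ P0, funOf g0 x = f' x := fun x hx => by
    rw [← hβ0e ⟨x, hx⟩, ← hφ0e ⟨x, hx⟩, ← hg0e ⟨x, hx⟩]
    exact (funOf_apply g0 (Subgroup.inclusion le_sup_left ⟨x, hx⟩)).symm
  have hgX : ∀ x ∈ (Subgroup.zpowers (a' y)), funOf g0 x = x := fun x hx =>
    (funOf_apply g0 (Subgroup.inclusion le_sup_right ⟨x, hx⟩)).symm.trans (hg0fix ⟨x, hx⟩)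
  have hg0iso : F.IsIso (P0 ⊔ (Subgroup.zpowers (a' y))) (P0 ⊔ (Subgroup.zpowers (a' y))) (funOf g0) :=
    sup_image (isIso_funOf hg0) le_sup_left le_sup_right
      (image_self (isIso_funOf hg0) le_sup_left fun x hx => by rw [hg x hx]; exact hf'.mem hx)
      (image_self (isIso_funOf hg0) le_sup_right fun x hx => by rw [hgX x hx]; exact hx)
  have htot := (hχ.comp hg0iso).comp hχ'
  obtain ⟨φβ, hφβ, -, hφβe⟩ := E.exists_map_of_mem_autGroup hRT hβ
  refine K.mem_autGroup_of_map (φ := φβ) ⟨hφβ, mem_centralizerHom hEi.1 hX hφβ htot (fun x => ?_)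
    (fun x hx => ?_)⟩ fun x => (hφβe x).symm
  · show φβ x = χ' (funOf g0 (a' (ε x)))
    rw [hφβe, hbe, hχP x x.2, hg _ (hPφ.mem x.2), hf'e x x.2]
    exact ((congrArg χ' (hχP _ (hb.mem x.2))).symm.trans
      (hχl _ (Subgroup.mem_sup_left (hb.mem x.2)))).symm
  · show χ' (funOf g0 (a' (ε x))) = x
    have hmem : a' (ε x) ∈ (Subgroup.zpowers (a' y)) := by
      rw [hεX x hx]
      exact (image_zpowers ha' hyW _).mpr ⟨x, hx, rfl⟩
    rw [hgX _ hmem, hχl x (Subgroup.mem_sup_right hx)]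

end Cfsg.FusionSystem.SubCent.Odd
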